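/-
Field extension subgroups of symplectic groups: the sesquilinear lift of the form and its transvections.
-/
import Cfsg.Agent.Lib.Transvec.AltMaximal
import Cfsg.Agent.Lib.Aschbacher.FormField

set_option autoImplicit false
set_option linter.all false

namespace Cfsg.Agent.SympFieldExt

open scoped Matrix
open Matrix Cfsg.Agent.Transvec

variable {ι : Type} [Fintype ι] [DecidableEq ι] {F : Type*} [Field F]
variable {f : (ι → F) → (ι → F) → F} {r : ℕ} {K : Subalgebra F (Matrix ι ι F)}

/-- A field of matrices with a symplectic form which comes from an alternating form over it. -/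
structure Ext (f : (ι → F) → (ι → F) → F) (r : ℕ) (K : Subalgebra F (Matrix ι ι F)) (ℓ : Module.Dual F K) : Prop where
  symp : Geo.IsSymplecticForm f
  field : Geo.IsFieldSubalgebra r K
  sa : Geo.IsSelfAdjointFor f K
  alt : ∀ k ∈ K, ∀ v, f (k *ᵥ v) v = 0
  ell_ne : ℓ ≠ 0

/-- The action of a member of the field. -/
abbrev act (a : K) (v : ι → F) : ι → F := (a : Matrix ι ι F) *ᵥ v

/-- Membership of one plus a map. -/
def Mem (M : Subgroup (GL ι F)) (Z : (ι → F) → ι → F) : Prop := ∃ g ∈ M, ∀ z, mv g z = z + Z z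

theorem act_mul (a b : K) (v : ι → F) : act (a * b) v = act a (act b v) := by
  simp [act, Matrix.mulVec_mulVec]

theorem act_one (v : ι → F) : act (1 : K) v = v := by simp [act]
theorem act_zero (v : ι → F) : act (0 : K) v = 0 := by simp [act]
theorem act_zero' (a : K) : act a (0 : ι → F) = 0 := Matrix.mulVec_zero _
theorem act_add (a b : K) (v : ι → F) : act (a + b) v = act a v + act b v := by simp [act, Matrix.add_mulVec]
theorem act_neg (a : K) (v : ι → F) : act (-a) v = -act a v := by simp [act, Matrix.neg_mulVec]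
theorem act_sub (a b : K) (v : ι → F) : act (a - b) v = act a v - act b v := by simp [act, Matrix.sub_mulVec]
theorem act_smul (c : F) (a : K) (v : ι → F) : act (c • a) v = c • act a v := by simp [act, Matrix.smul_mulVec]
theorem act_add' (a : K) (v w : ι → F) : act a (v + w) = act a v + act a w := Matrix.mulVec_add _ _ _
theorem act_sub' (a : K) (v w : ι → F) : act a (v - w) = act a v - act a w := Matrix.mulVec_sub _ _ _
theorem act_smul' (c : F) (a : K) (v : ι → F) : act a (c • v) = c • act a v := Matrix.mulVec_smul _ _ _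

variable (K) in
/-- The line over the field through a vector. -/
def line (u : ι → F) : Submodule F (ι → F) :=
  LinearMap.range ({ toFun := fun a : K => act a u
                     map_add' := fun a b => act_add a b u
                     map_smul' := fun c a => act_smul c a u } : K →ₗ[F] ι → F)

theorem mem_line {u z : ι → F} : z ∈ line K u ↔ ∃ a : K, act a u = z := Iff.rfl

theorem self_mem_line (u : ι → F) : u ∈ line K u := mem_line.2 ⟨1, act_one u⟩

theorem act_mem_line (a : K) (u : ι → F) : act a u ∈ line K u := mem_line.2 ⟨a, rfl⟩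

variable {ℓ : Module.Dual F K} (hE : Ext f r K ℓ)
include hE

theorem mcomm (a b : K) : a * b = b * a := Subtype.ext (hE.field.comm _ a.2 _ b.2)

theorem exists_inv {a : K} (ha : a ≠ 0) : ∃ b : K, a * b = 1 ∧ b * a = 1 := by
  obtain ⟨y, hy, h⟩ := hE.field.inv a.1 a.2 fun e => ha (Subtype.ext e)
  exact ⟨⟨y, hy⟩, Subtype.ext h, by rw [mcomm hE]; exact Subtype.ext h⟩

theorem mul_ne_zero' {a b : K} (ha : a ≠ 0) (hb : b ≠ 0) : a * b ≠ 0 := fun h => by
  obtain ⟨c, -, hc⟩ := exists_inv hE ha
  exact hb (by rw [← one_mul b, ← hc, mul_assoc, h, mul_zero])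

theorem act_eq_zero {a : K} {v : ι → F} (h : act a v = 0) : a = 0 ∨ v = 0 := by
  refine or_iff_not_imp_left.2 fun ha => ?_
  obtain ⟨c, -, hc⟩ := exists_inv hE ha
  rw [← act_one (K := K) v, ← hc, act_mul, h, act_zero']

theorem act_inj {a b : K} {v : ι → F} (hv : v ≠ 0) (h : act a v = act b v) : a = b :=
  sub_eq_zero.1 ((act_eq_zero hE (by rw [act_sub, h, sub_self])).resolve_right hv)

theorem f_act (a : K) (x y : ι → F) : f (act a x) y = f x (act a y) := hE.sa _ a.2 x y

theorem finrank_line {u : ι → F} (hu : u ≠ 0) : Module.finrank F (line K u) = r := by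
  rw [← hE.field.finrank_eq]
  exact LinearMap.finrank_range_of_inj fun a b h => act_inj hE hu h

theorem eq_of_ell {x y : K} (h : ∀ a : K, ℓ (a * x) = ℓ (a * y)) : x = y := by
  by_contra hne
  obtain ⟨c, -, hc⟩ := exists_inv hE (sub_ne_zero.2 hne)
  refine hE.ell_ne (LinearMap.ext fun b => ?_)
  rw [LinearMap.zero_apply, ← mul_one b, ← hc, ← mul_assoc, mul_sub, map_sub, h, sub_self]

theorem exists_ell_mul {x : K} (hx : x ≠ 0) : ∃ a : K, ℓ (a * x) ≠ 0 := by
  by_contra h
  push Not at h
  exact hx (eq_of_ell hE fun a => by rw [h a, mul_zero, map_zero])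

theorem exists_rep (φ : Module.Dual F K) : ∃ c : K, ∀ a, ℓ (a * c) = φ a := by
  let Φ : K →ₗ[F] Module.Dual F K :=
    { toFun := fun c => ℓ.comp (LinearMap.mulRight F c)
      map_add' := fun a b => LinearMap.ext fun x => by simp [mul_add]
      map_smul' := fun t a => LinearMap.ext fun x => by simp }
  have hinj : Function.Injective Φ := fun a b h => eq_of_ell hE fun x => LinearMap.congr_fun h x
  obtain ⟨c, hc⟩ := (LinearMap.injective_iff_surjective_of_finrank_eq_finrank
    (Subspace.dual_finrank_eq).symm).1 hinj φ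
  exact ⟨c, fun a => LinearMap.congr_fun hc a⟩

/-- The form over the field. -/
noncomputable def fK (x u : ι → F) : K :=
  (exists_rep hE
    { toFun := fun a => f (act a x) u
      map_add' := fun a b => by rw [act_add]; exact hE.symp.bilinear.add_left _ _ _
      map_smul' := fun c a => by rw [act_smul]; exact hE.symp.bilinear.smul_left _ _ _ }).choose

theorem ell_fK (a : K) (x u : ι → F) : ℓ (a * fK hE x u) = f (act a x) u :=
  (exists_rep hE
    { toFun := fun a => f (act a x) u
      map_add' := fun a b => by rw [act_add]; exact hE.symp.bilinear.add_left _ _ _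
      map_smul' := fun c a => by rw [act_smul]; exact hE.symp.bilinear.smul_left _ _ _ }).choose_spec a

theorem ell_fK_one (x u : ι → F) : ℓ (fK hE x u) = f x u := by
  have := ell_fK hE 1 x u
  rwa [one_mul, act_one] at this

theorem fK_add_left (x y u : ι → F) : fK hE (x + y) u = fK hE x u + fK hE y u :=
  eq_of_ell hE fun a => by rw [ell_fK, mul_add, map_add, ell_fK, ell_fK, act_add', hE.symp.bilinear.add_left]

theorem fK_add_right (x y u : ι → F) : fK hE u (x + y) = fK hE u x + fK hE u y :=
  eq_of_ell hE fun a => by rw [ell_fK, mul_add, map_add, ell_fK, ell_fK, hE.symp.bilinear.add_right]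

theorem fK_act_left (b : K) (x u : ι → F) : fK hE (act b x) u = b * fK hE x u :=
  eq_of_ell hE fun a => by rw [ell_fK, ← mul_assoc, ell_fK, act_mul]

theorem fK_act_right (b : K) (x u : ι → F) : fK hE x (act b u) = b * fK hE x u :=
  eq_of_ell hE fun a => by rw [ell_fK, ← mul_assoc, ell_fK, ← f_act hE, ← act_mul, mcomm hE]

theorem fK_smul_left (c : F) (x u : ι → F) : fK hE (c • x) u = c • fK hE x u :=
  eq_of_ell hE fun a => by rw [ell_fK, mul_smul_comm, map_smul, ell_fK, act_smul', hE.symp.bilinear.smul_left, smul_eq_mul]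

theorem fK_self (x : ι → F) : fK hE x x = 0 :=
  eq_of_ell hE fun a => by rw [ell_fK, mul_zero, map_zero]; exact hE.alt _ a.2 x

theorem fK_skew (x y : ι → F) : fK hE y x = -fK hE x y := by
  have h := fK_self hE (x + y)
  rw [fK_add_left, fK_add_right, fK_add_right, fK_self, fK_self, zero_add, add_zero] at h
  exact eq_neg_of_add_eq_zero_right h

theorem fK_eq_zero_comm {x y : ι → F} : fK hE x y = 0 ↔ fK hE y x = 0 := by
  rw [fK_skew hE x y, neg_eq_zero]

theorem fK_sub_left (x y u : ι → F) : fK hE (x - y) u = fK hE x u - fK hE y u := by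
  rw [eq_sub_iff_add_eq, ← fK_add_left, sub_add_cancel]

theorem fK_sub_right (x y u : ι → F) : fK hE u (x - y) = fK hE u x - fK hE u y := by
  rw [eq_sub_iff_add_eq, ← fK_add_right, sub_add_cancel]

theorem fK_zero_left (u : ι → F) : fK hE 0 u = 0 := by
  rw [← sub_self u, fK_sub_left, fK_self, sub_self]

/-- The map x ↦ fK(x, u). -/
noncomputable def proj (u : ι → F) : (ι → F) →ₗ[F] K where
  toFun x := fK hE x u
  map_add' x y := fK_add_left hE x y u
  map_smul' c x := fK_smul_left hE c x u

/-- The nilpotent part of a transvection over the field. -/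
noncomputable def X (u : ι → F) (a : K) : (ι → F) →ₗ[F] ι → F where
  toFun z := act (a * fK hE z u) u
  map_add' x y := by rw [fK_add_left, mul_add, act_add]
  map_smul' c x := by rw [fK_smul_left, mul_smul_comm, act_smul]; rfl

theorem X_apply (u : ι → F) (a : K) (z : ι → F) : X hE u a z = act (a * fK hE z u) u := rfl

theorem X_X (u : ι → F) (a : K) (z : ι → F) : X hE u a (X hE u a z) = 0 := by
  rw [X_apply, X_apply, fK_act_left, fK_self, mul_zero, mul_zero, act_zero]

theorem f_X (u : ι → F) (a : K) (z z' : ι → F) :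
    f (X hE u a z) z' = -ℓ (a * fK hE z u * fK hE z' u) := by
  rw [X_apply, ← ell_fK hE, fK_skew hE z' u,
    show ∀ p q : K, p * -q = -(p * q) from fun p q => mul_neg p q, map_neg]

theorem X_sym (u : ι → F) (a : K) (z z' : ι → F) : f (X hE u a z) z' + f z (X hE u a z') = 0 := by
  rw [hE.symp.skew z, f_X hE, f_X hE, mul_assoc, mcomm hE (fK hE z u), ← mul_assoc]
  ring

/-- The transvection over the field. -/
noncomputable def T (u : ι → F) (a : K) : GL ι F where
  val := 1 + LinearMap.toMatrix' (X hE u a)
  inv := 1 - LinearMap.toMatrix' (X hE u a)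
  val_inv := Matrix.toLin'.injective (LinearMap.ext fun z => by
    simp [Matrix.toLin'_mul, X_X, sub_eq_add_neg])
  inv_val := Matrix.toLin'.injective (LinearMap.ext fun z => by
    simp [Matrix.toLin'_mul, X_X, sub_eq_add_neg])

theorem mv_T (u : ι → F) (a : K) (z : ι → F) : mv (T hE u a) z = z + X hE u a z := by
  show (1 + LinearMap.toMatrix' (X hE u a)) *ᵥ z = _
  rw [Matrix.add_mulVec, Matrix.one_mulVec, LinearMap.toMatrix'_mulVec]

theorem T_mem (u : ι → F) (a : K) : T hE u a ∈ preserving (Units.coeHom (Matrix ι ι F)) f := by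
  show ∀ x y, f (mv (T hE u a) x) (mv (T hE u a) y) = f x y
  intro x y
  have h1 : f (X hE u a x) (X hE u a y) = 0 := by
    rw [f_X hE, X_apply hE u a y, fK_act_left, fK_self]; simp
  rw [mv_T, mv_T, hE.symp.bilinear.add_left, hE.symp.bilinear.add_right, hE.symp.bilinear.add_right, h1]
  linear_combination X_sym hE u a x y

theorem T_mem_normalizer (u : ι → F) (a : K) : T hE u a ∈ Geo.subalgebraNormalizer K := by
  have hc : ∀ b : K, ((T hE u a : GL ι F) : Matrix ι ι F) * b.1 = b.1 * ((T hE u a : GL ι F) : Matrix ι ι F) :=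
    fun b => Matrix.ext_of_mulVec_single fun i => by
      rw [← Matrix.mulVec_mulVec, ← Matrix.mulVec_mulVec]
      show mv (T hE u a) (act b _) = act b (mv (T hE u a) _)
      rw [mv_T, mv_T, act_add', X_apply, X_apply, fK_act_left, ← act_mul, ← mul_assoc a b, mcomm hE a b, mul_assoc]
  intro k
  constructor
  · intro hk
    rw [hc ⟨k, hk⟩, mul_assoc, Units.mul_inv, mul_one]
    exact hk
  · intro hk
    have h := hc ⟨_, hk⟩
    have : k = (T hE u a : GL ι F).1 * k * ((T hE u a)⁻¹ : GL ι F).1 := by
      have e : (T hE u a : GL ι F).1 * k = (T hE u a : GL ι F).1 * ((T hE u a : GL ι F).1 * k * ((T hE u a)⁻¹ : GL ι F).1) := by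
        rw [h, mul_assoc _ (((T hE u a)⁻¹ : GL ι F).1), Units.inv_mul, mul_one]
      exact (Units.mul_right_inj _).1 e
    rw [this]; exact hk

theorem mem_T {M : Subgroup (GL ι F)}
    (hHM : Geo.subalgebraNormalizer K ⊓ preserving (Units.coeHom (Matrix ι ι F)) f ≤ M) (u : ι → F) (a : K) :
    T hE u a ∈ M :=
  hHM ⟨T_mem_normalizer hE u a, T_mem hE u a⟩

end Cfsg.Agent.SympFieldExt
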