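/-
Commutators of unipotent symplectic maps, and alternating maps with image in an isotropic subspace.
-/
import Cfsg.Agent.Lib.SympFieldExt.Setup

set_option autoImplicit false
set_option linter.all false

namespace Cfsg.Agent.SympFieldExt

open scoped Matrix
open Matrix Cfsg.Agent.Transvec

variable {ι : Type} [Fintype ι] [DecidableEq ι] {F : Type*} [Field F]
variable {f : (ι → F) → (ι → F) → F}

theorem Mem.congr {M : Subgroup (GL ι F)} {A B : (ι → F) → ι → F} (h : Mem M A) (e : ∀ z, A z = B z) : Mem M B := by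
  obtain ⟨g, hg, hgA⟩ := h
  exact ⟨g, hg, fun z => by rw [hgA, e]⟩

theorem mem_zero (M : Subgroup (GL ι F)) : Mem M fun _ => 0 :=
  ⟨1, M.one_mem, fun z => by rw [mv_one, add_zero]⟩

theorem mv_inv_of {g : GL ι F} {B : (ι → F) →ₗ[F] ι → F} (hg : ∀ z, mv g z = z + B z) (hB : ∀ z, B (B z) = 0)
    (z : ι → F) : mv g⁻¹ z = z - B z := by
  refine mv_inj g ?_
  rw [mv_mv_inv, hg, map_sub, hB, sub_zero, sub_add_cancel]

theorem Mem.add {M : Subgroup (GL ι F)} {A B : (ι → F) → ι → F} (hA : Mem M A) (hB : Mem M B)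
    (h : ∀ z, A (z + B z) = A z) : Mem M fun z => A z + B z := by
  obtain ⟨g, hg, hgA⟩ := hA
  obtain ⟨k, hk, hkB⟩ := hB
  exact ⟨g * k, M.mul_mem hg hk, fun z => by rw [mv_mul, hkB, hgA, h]; abel⟩

theorem Mem.sub {M : Subgroup (GL ι F)} {A : (ι → F) → ι → F} {B : (ι → F) →ₗ[F] ι → F} (hA : Mem M A)
    (hB : Mem M B) (hBB : ∀ z, B (B z) = 0) (h : ∀ z, A (z - B z) = A z) : Mem M fun z => A z - B z := by
  obtain ⟨g, hg, hgA⟩ := hA
  obtain ⟨k, hk, hkB⟩ := hB
  exact ⟨g * k⁻¹, M.mul_mem hg (M.inv_mem hk), fun z => by rw [mv_mul, mv_inv_of hkB hBB, hgA, h]; abel⟩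

variable (hf : Geo.IsSymplecticForm f)
include hf

theorem stv_mem_of {M : Subgroup (GL ι F)} {v : ι → F} {c : F} (h : Mem M fun z => (c * f z v) • v) :
    stv hf v c ∈ M := by
  obtain ⟨g, hg, hgz⟩ := h
  rwa [show stv hf v c = g from ext_mv fun z => by rw [mv_stv, hgz]]

theorem mem_of_stv {M : Subgroup (GL ι F)} {v : ι → F} {c : F} (h : stv hf v c ∈ M) :
    Mem M fun z => (c * f z v) • v :=
  ⟨_, h, mv_stv hf v c⟩

variable {M : Subgroup (GL ι F)} {W : Submodule F (ι → F)} (hW : ∀ a ∈ W, ∀ b ∈ W, f a b = 0)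
include hW

/-- The commutator of two unipotent maps around a hyperbolic pair. -/
theorem mem_comm {e e' w w0 : ι → F} {α : F} {X Y : (ι → F) →ₗ[F] ι → F} (hWe : ∀ a ∈ W, f a e = 0)
    (hWe' : ∀ a ∈ W, f a e' = 0) (hee : f e e' = 1) (hw : w ∈ W) (hw0 : w0 ∈ W) (hX : Mem M X) (hY : Mem M Y)
    (hXs : ∀ z y, f (X z) y + f z (X y) = 0) (hYs : ∀ z y, f (Y z) y + f z (Y y) = 0)
    (hXW : ∀ a ∈ W, X a = 0) (hYW : ∀ a ∈ W, Y a = 0) (hXe : X e = 0) (hYe' : Y e' = 0)
    (hXr : ∀ z, ∃ c : F, X z - c • e ∈ W) (hYr : ∀ z, ∃ c : F, Y z - c • e' ∈ W)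
    (hXe' : X e' = w) (hYe : Y e = α • e' + w0) :
    Mem M fun z => -(f z w • (α • e' + w0) + f z (α • e' + w0) • w + (α * f z w) • w) := by
  have hX' : ∀ z, X z + f z w • e ∈ W := fun z => by
    obtain ⟨c, hc⟩ := hXr z
    have h1 := hWe' _ hc
    have h2 := hXs z e'
    rw [f_sub_left hf, hf.bilinear.smul_left, hee, mul_one] at h1
    rw [hXe'] at h2
    rwa [show c = -f z w by linear_combination h2 - h1, neg_smul, sub_neg_eq_add] at hc
  have hY' : ∀ z, Y z - f z (Y e) • e' ∈ W := fun z => by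
    obtain ⟨c, hc⟩ := hYr z
    have h1 := hWe _ hc
    have h2 := hYs z e
    rw [f_sub_left hf, hf.bilinear.smul_left, hf.skew e' e, hee] at h1
    rwa [show f z (Y e) = c by linear_combination h2 - h1]
  have hYX : ∀ z, Y (X z) = -(f z w • Y e) := fun z => by
    conv_lhs => rw [show X z = (X z + f z w • e) + (-f z w) • e by rw [neg_smul]; abel]
    rw [map_add, hYW _ (hX' z), map_smul, zero_add, neg_smul]
  have hXY : ∀ z, X (Y z) = f z (Y e) • w := fun z => by
    conv_lhs => rw [show Y z = (Y z - f z (Y e) • e') + f z (Y e) • e' by abel]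
    rw [map_add, hXW _ (hY' z), map_smul, hXe', zero_add]
  have hXX : ∀ z, X (X z) = 0 := fun z => by
    conv_lhs => rw [show X z = (X z + f z w • e) + (-f z w) • e by rw [neg_smul]; abel]
    rw [map_add, hXW _ (hX' z), map_smul, hXe, smul_zero, add_zero]
  have hYY : ∀ z, Y (Y z) = 0 := fun z => by
    conv_lhs => rw [show Y z = (Y z - f z (Y e) • e') + f z (Y e) • e' by abel]
    rw [map_add, hYW _ (hY' z), map_smul, hYe', smul_zero, add_zero]
  obtain ⟨a, ha, haX⟩ := hX
  obtain ⟨b, hb, hbY⟩ := hY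
  refine ⟨b * a * b⁻¹ * a⁻¹, M.mul_mem (M.mul_mem (M.mul_mem hb ha) (M.inv_mem hb)) (M.inv_mem ha), fun z => ?_⟩
  rw [mv_mul, mv_mul, mv_mul, mv_inv_of haX hXX, mv_inv_of hbY hYY, haX, hbY]
  have hXw : X (Y e) = α • w := by rw [hYe, map_add, map_smul, hXe', hXW _ hw0, add_zero]
  simp only [map_sub, map_add, hYY, hXX, hXY, hYX, map_neg, map_smul, hYW _ hw, hXw, smul_zero, neg_zero,
    sub_zero, add_zero, zero_add, smul_smul]
  rw [hYe]
  have he0 : f e (α • e' + w0) = α := by
    rw [hf.bilinear.add_right, hf.bilinear.smul_right, hee, (f_eq_zero_comm hf).1 (hWe _ hw0)]; ring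
  match_scalars <;> (try simp only [he0]) <;> ring

omit hW in
/-- The sum of two rank-one maps. -/
def rankTwo (p q : ι → F) : (ι → F) →ₗ[F] ι → F where
  toFun z := f z q • p + f z p • q
  map_add' x y := by
    simp only [hf.bilinear.add_left, add_smul]; abel
  map_smul' c x := by
    simp only [hf.bilinear.smul_left, RingHom.id_apply, smul_add, smul_smul]

/-- In characteristic two an alternating map with image in the subspace is a product of rank two ones. -/
theorem mem_of_alternating (h2 : (2 : F) = 0) (hP : ∀ p ∈ W, ∀ q ∈ W, Mem M fun z => f z q • p + f z p • q)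
    (Z : (ι → F) →ₗ[F] ι → F) (hZr : ∀ z, Z z ∈ W) (hZs : ∀ z y, f (Z z) y + f z (Z y) = 0)
    (hZd : ∀ z, f (Z z) z = 0) : Mem M Z := by
  induction hn : Module.finrank F (LinearMap.range Z) using Nat.strong_induction_on generalizing Z with
  | _ n ih =>
    subst hn
    have hkill : ∀ (Z : (ι → F) →ₗ[F] ι → F), (∀ z, Z z ∈ W) → (∀ z y, f (Z z) y + f z (Z y) = 0) →
        ∀ a ∈ W, Z a = 0 := by
      intro Z hZr hZs a ha
      by_contra hne
      obtain ⟨-, y, hy⟩ := hf.nondegenerate _ hne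
      have h := hZs a y
      rw [hW a ha _ (hZr y), add_zero] at h
      exact hy h
    by_cases h0 : ∀ z, Z z = 0
    · exact (mem_zero M).congr fun z => (h0 z).symm
    push Not at h0
    obtain ⟨z₀, hz₀⟩ := h0
    obtain ⟨-, y, hy⟩ := hf.nondegenerate _ hz₀
    obtain ⟨z₁, hz₁⟩ : ∃ z₁, f (Z z₀) z₁ = 1 :=
      ⟨(f (Z z₀) y)⁻¹ • y, by rw [hf.bilinear.smul_right, inv_mul_cancel₀ hy]⟩
    set p := Z z₁ with hp
    set q := Z z₀ with hq
    have hzp : f z₀ p = -1 := by have := hZs z₀ z₁; rw [← hq, hz₁] at this; linear_combination this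
    have hzq : f z₀ q = 0 := (f_eq_zero_comm hf).1 (hZd z₀)
    obtain ⟨P, hPdef⟩ : ∃ P : (ι → F) →ₗ[F] ι → F, ∀ z, P z = f z q • p + f z p • q := ⟨rankTwo hf p q, fun z => rfl⟩
    have hPW : ∀ z, P z ∈ W := fun z => hPdef z ▸ W.add_mem (W.smul_mem _ (hZr _)) (W.smul_mem _ (hZr _))
    have hPs : ∀ z y, f (P z) y + f z (P y) = 0 := fun z y => by
      simp only [hPdef, hf.bilinear.add_left, hf.bilinear.add_right, hf.bilinear.smul_left, hf.bilinear.smul_right,
        hf.skew p y, hf.skew q y]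
      ring
    have hker : LinearMap.ker Z < LinearMap.ker (Z + P) := by
      refine lt_of_le_of_ne (fun z hz => ?_) fun he => hz₀ ?_
      · rw [LinearMap.mem_ker] at hz ⊢
        have e1 := hZs z z₁
        have e2 := hZs z z₀
        rw [hz, f_zero_left hf, zero_add] at e1 e2
        rw [LinearMap.add_apply, hz, hPdef, ← hp, ← hq] at *
        simp [e1, e2]
      · have : z₀ ∈ LinearMap.ker (Z + P) := by
          rw [LinearMap.mem_ker, LinearMap.add_apply, hPdef, hzp, hzq, ← hq]; simp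
        rw [← he, LinearMap.mem_ker] at this
        exact this
    have hlt : Module.finrank F (LinearMap.range (Z + P)) < Module.finrank F (LinearMap.range Z) := by
      have h3 := Submodule.finrank_lt_finrank_of_lt hker
      have h4 := LinearMap.finrank_range_add_finrank_ker Z
      have h5 := LinearMap.finrank_range_add_finrank_ker (Z + P)
      omega
    have hr' : ∀ z, (Z + P) z ∈ W := fun z => W.add_mem (hZr z) (hPW z)
    have hs' : ∀ z y, f ((Z + P) z) y + f z ((Z + P) y) = 0 := fun z y => by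
      simp only [LinearMap.add_apply, hf.bilinear.add_left, hf.bilinear.add_right]
      linear_combination hZs z y + hPs z y
    have := ih _ hlt (Z + P) hr' hs' (fun z => by
      rw [LinearMap.add_apply, hf.bilinear.add_left, hZd, hPdef, hf.bilinear.add_left, hf.bilinear.smul_left,
        hf.bilinear.smul_left, hf.skew p z, hf.skew q z]
      linear_combination (-(f z q * f z p)) * h2) rfl
    refine (this.sub (B := P) ((hP p (hZr _) q (hZr _)).congr fun z => (hPdef z).symm)
      (fun z => hkill P hPW hPs _ (hPW z)) fun z => ?_).congr fun z => ?_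
    · rw [map_sub, hkill _ hr' hs' _ (hPW z), sub_zero]
    · simp

end Cfsg.Agent.SympFieldExt
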