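/-
Transitivity of the symplectic group over the extension field, and overgroups which fix its lines.
-/
import Cfsg.Agent.Lib.SympFieldExt.Setup

set_option autoImplicit false
set_option linter.all false

namespace Cfsg.Agent.SympFieldExt

open scoped Matrix
open Matrix Cfsg.Agent.Transvec

variable {ι : Type} [Fintype ι] [DecidableEq ι] {F : Type*} [Field F]
variable {f : (ι → F) → (ι → F) → F} {r : ℕ} {K : Subalgebra F (Matrix ι ι F)} {ℓ : Module.Dual F K}
variable (hE : Ext f r K ℓ)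
include hE

theorem exists_fK_ne {u : ι → F} (hu : u ≠ 0) : ∃ v, fK hE v u ≠ 0 := by
  obtain ⟨v, hv⟩ := (hE.symp.nondegenerate u hu).1
  exact ⟨v, fun h => hv (by rw [← ell_fK_one hE, h, map_zero])⟩

theorem exists_one {u : ι → F} (hu : u ≠ 0) (p : K) : ∃ v, fK hE v u = p := by
  obtain ⟨v, hv⟩ := exists_fK_ne hE hu
  obtain ⟨c, -, hc⟩ := exists_inv hE hv
  exact ⟨act (p * c) v, by rw [fK_act_left, mul_assoc, hc, mul_one]⟩

/-- Independent vectors have independent functionals over the field. -/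
theorem exists_pair {a c : ι → F} (ha : a ≠ 0) (hc : c ∉ line K a) (p q : K) :
    ∃ v, fK hE v a = p ∧ fK hE v c = q := by
  let φ : (ι → F) →ₗ[F] K × K := (proj hE a).prod (proj hE c)
  have hφ : ∀ v, φ v = (fK hE v a, fK hE v c) := fun v => rfl
  suffices LinearMap.range φ = ⊤ by
    obtain ⟨v, hv⟩ := this.ge (Submodule.mem_top (x := (p, q)))
    rw [hφ] at hv
    exact ⟨v, congrArg Prod.fst hv, congrArg Prod.snd hv⟩
  by_contra h
  obtain ⟨ψ, hψ0, hψ⟩ := Submodule.exists_dual_map_eq_bot_of_lt_top (lt_top_iff_ne_top.2 h) inferInstance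
  obtain ⟨α, hα⟩ := exists_rep hE (ψ.comp (LinearMap.inl F K K))
  obtain ⟨γ, hγ⟩ := exists_rep hE (ψ.comp (LinearMap.inr F K K))
  have key : ∀ v, f v (act α a + act γ c) = 0 := fun v => by
    have h1 : ψ (φ v) ∈ (LinearMap.range φ).map ψ := Submodule.mem_map_of_mem ⟨v, rfl⟩
    rw [hψ, Submodule.mem_bot, hφ] at h1
    rw [← ell_fK_one hE, fK_add_right, fK_act_right, fK_act_right, map_add, mcomm hE α, mcomm hE γ, hα, hγ,
      LinearMap.comp_apply, LinearMap.comp_apply, ← map_add, LinearMap.inl_apply, LinearMap.inr_apply]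
    simpa using h1
  have h0 : act α a + act γ c = 0 := by
    by_contra h0
    obtain ⟨v, hv⟩ := (hE.symp.nondegenerate _ h0).1
    exact hv (key v)
  have hγ0 : γ = 0 := by
    by_contra hγ0
    obtain ⟨δ, -, hδ⟩ := exists_inv hE hγ0
    refine hc (mem_line.2 ⟨-(δ * α), ?_⟩)
    rw [act_neg, act_mul, eq_neg_of_add_eq_zero_left h0, ← neg_one_smul F (act γ c), act_smul', neg_one_smul,
      neg_neg, ← act_mul, hδ, act_one]
  rw [hγ0, act_zero, add_zero] at h0
  have hα0 : α = 0 := (act_eq_zero hE h0).resolve_right ha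
  refine hψ0 (LinearMap.ext fun x => ?_)
  rw [show x = LinearMap.inl F K K x.1 + LinearMap.inr F K K x.2 by simp, map_add,
    show ψ (LinearMap.inl F K K x.1) = 0 by rw [← LinearMap.comp_apply, ← hα, hα0, mul_zero, map_zero],
    show ψ (LinearMap.inr F K K x.2) = 0 by rw [← LinearMap.comp_apply, ← hγ, hγ0, mul_zero, map_zero]]
  simp

theorem T_map {u w : ι → F} (h : fK hE u w ≠ 0) :
    ∃ a, mv (T hE (w - u) a) u = w ∧ ∀ y, fK hE y (w - u) = 0 → mv (T hE (w - u) a) y = y := by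
  obtain ⟨a, -, ha⟩ := exists_inv hE h
  refine ⟨a, ?_, fun y hy => ?_⟩
  · rw [mv_T, X_apply, fK_sub_right, fK_self, sub_zero, ha, act_one, add_sub_cancel]
  · rw [mv_T, X_apply, hy, mul_zero, act_zero, add_zero]

variable {M : Subgroup (GL ι F)}
  (hHM : Geo.subalgebraNormalizer K ⊓ preserving (Units.coeHom (Matrix ι ι F)) f ≤ M)
include hHM

/-- Transitivity on non-zero vectors. -/
theorem exists_move {u w : ι → F} (hu : u ≠ 0) (hw : w ≠ 0) :
    ∃ h ∈ M, h ∈ preserving (Units.coeHom (Matrix ι ι F)) f ∧ (∀ a : K, ∀ z, mv h (act a z) = act a (mv h z)) ∧ mv h u = w := by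
  have one : ∀ x y : ι → F, fK hE x y ≠ 0 →
      ∃ h ∈ M, h ∈ preserving (Units.coeHom (Matrix ι ι F)) f ∧ (∀ a : K, ∀ z, mv h (act a z) = act a (mv h z)) ∧ mv h x = y := by
    intro x y hxy
    obtain ⟨a, ha, -⟩ := T_map hE hxy
    refine ⟨_, mem_T hE hHM _ a, T_mem hE _ a, fun b z => ?_, ha⟩
    rw [mv_T, mv_T, X_apply, X_apply, fK_act_left, act_add', ← act_mul, ← mul_assoc a b, mcomm hE a b,
      mul_assoc]
  obtain ⟨z, hz1, hz2⟩ : ∃ z, fK hE u z ≠ 0 ∧ fK hE z w ≠ 0 := by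
    have h10 : (1 : K) ≠ 0 := fun h => hu (by rw [← act_one (K := K) u, h, act_zero])
    by_cases hwu : w ∈ line K u
    · obtain ⟨μ, rfl⟩ := mem_line.1 hwu
      obtain ⟨z, hz⟩ := exists_one hE hu 1
      have hμ : μ ≠ 0 := fun h => hw (by rw [h, act_zero])
      exact ⟨z, by rw [Ne, fK_eq_zero_comm, hz]; exact h10, by rw [fK_act_right, hz, mul_one]; exact hμ⟩
    · obtain ⟨z, h1, h2⟩ := exists_pair hE hu hwu 1 1
      exact ⟨z, by rw [Ne, fK_eq_zero_comm, h1]; exact h10, by rw [h2]; exact h10⟩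
  obtain ⟨g, hg, hgN, hgc, hgu⟩ := one u z hz1
  obtain ⟨h, hh, hhN, hhc, hhz⟩ := one z w hz2
  exact ⟨h * g, M.mul_mem hh hg, Subgroup.mul_mem _ hhN hgN, fun a x => by rw [mv_mul, mv_mul, hgc, hhc],
    by rw [mv_mul, hgu, hhz]⟩

/-- Transitivity on hyperbolic pairs over the field. -/
theorem exists_move_pair {u v u' v' : ι → F} (h : fK hE v u = 1) (h' : fK hE v' u' = 1) :
    ∃ g ∈ M, mv g u = u' ∧ mv g v = v' := by
  by_cases hK : (1 : K) = 0
  · have : ∀ x : ι → F, x = 0 := fun x => by rw [← act_one (K := K) x, hK, act_zero]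
    exact ⟨1, M.one_mem, by rw [this u', mv_one, this u], by rw [this v', mv_one, this v]⟩
  have hne : ∀ {x y : ι → F}, fK hE y x = 1 → x ≠ 0 := fun hxy hx => hK (by
    rw [← hxy, (fK_eq_zero_comm hE).1 (by rw [hx]; exact fK_zero_left hE _)])
  obtain ⟨g, hg, hgN, hgc, hgu⟩ := exists_move hE hHM (hne h) (hne h')
  have hgv : fK hE (mv g v) u' = 1 := by
    rw [← hgu]
    refine Eq.trans (eq_of_ell hE fun a => ?_) h
    rw [ell_fK, ell_fK, ← hgc]
    exact hgN _ _
  have step : ∀ x y, fK hE x u' = 1 → fK hE y u' = 1 → fK hE x y ≠ 0 → ∃ k ∈ M, mv k u' = u' ∧ mv k x = y := by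
    intro x y hx hy hxy
    obtain ⟨a, ha, hfix⟩ := T_map hE hxy
    exact ⟨_, mem_T hE hHM _ a, hfix u' (by
      rw [fK_eq_zero_comm, fK_sub_left, hx, hy, sub_self]), ha⟩
  obtain ⟨k, hk, hku, hkv⟩ : ∃ k ∈ M, mv k u' = u' ∧ mv k (mv g v) = v' := by
    by_cases h0 : fK hE (mv g v) v' = 0
    swap
    · exact step _ _ hgv h' h0
    have hz : fK hE (mv g v + u') u' = 1 := by rw [fK_add_left, hgv, fK_self, add_zero]
    obtain ⟨k₁, hk₁, hk₁u, hk₁v⟩ := step _ _ hgv hz (by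
      rw [fK_add_right, fK_self, zero_add, hgv]; exact hK)
    obtain ⟨k₂, hk₂, hk₂u, hk₂v⟩ := step _ _ hz h' (by
      rw [fK_add_left, h0, zero_add, fK_skew hE v' u', h']; exact neg_ne_zero.2 hK)
    exact ⟨k₂ * k₁, M.mul_mem hk₂ hk₁, by rw [mv_mul, hk₁u, hk₂u], by rw [mv_mul, hk₁v, hk₂v]⟩
  exact ⟨k * g, M.mul_mem hk hg, by rw [mv_mul, hgu, hku], by rw [mv_mul, hkv]⟩

omit hHM in
/-- The field elements commuted with, up to an automorphism, by a map permuting the lines. -/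
theorem semilinear_of_lines [Finite F] (hr : 2 ≤ r) (h2 : ∃ u w : ι → F, u ≠ 0 ∧ w ∉ line K u)
    {g : GL ι F} (hg : ∀ (u : ι → F) (a : K), mv g (act a u) ∈ line K (mv g u)) :
    g ∈ Geo.subalgebraNormalizer K := by
  obtain ⟨u₀, w₀, hu₀, hw₀⟩ := h2
  choose σ hσ using fun u a => mem_line.1 (hg u a)
  have hne : ∀ {u : ι → F}, u ≠ 0 → mv g u ≠ 0 := fun hu h => hu (mv_inj g (h.trans (mv_zero g).symm))
  have indep : ∀ {u w : ι → F}, u ≠ 0 → w ∉ line K u → ∀ a, σ u a = σ w a := by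
    intro u w hu hw a
    have h := hσ (u + w) a
    rw [act_add', mv_add, mv_add, ← hσ u a, ← hσ w a, act_add'] at h
    have h' : act (σ (u + w) a - σ u a) (mv g u) = act (σ w a - σ (u + w) a) (mv g w) := by
      rw [act_sub, act_sub]; linear_combination (norm := module) h
    by_cases h0 : σ w a - σ (u + w) a = 0
    · rw [h0, act_zero] at h'
      rw [← sub_eq_zero.1 ((act_eq_zero hE h').resolve_right (hne hu)), sub_eq_zero.1 h0]
    · exfalso
      obtain ⟨c, -, hc⟩ := exists_inv hE h0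
      refine hw ?_
      -- pull the line back along g
      have hmem : mv g w ∈ line K (mv g u) :=
        mem_line.2 ⟨c * (σ (u + w) a - σ u a), by rw [act_mul, h', ← act_mul, hc, act_one]⟩
      obtain ⟨b, hb⟩ := mem_line.1 hmem
      let φ : K →ₗ[F] ι → F :=
        { toFun := fun b => mv g (act b u)
          map_add' := fun p q => by rw [act_add, mv_add]
          map_smul' := fun p q => by rw [act_smul, mv_smul]; rfl }
      have hle : LinearMap.range φ ≤ line K (mv g u) := by rintro _ ⟨b, rfl⟩; exact hg u b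
      have hd : Module.finrank F (line K (mv g u)) ≤ Module.finrank F (LinearMap.range φ) := by
        rw [finrank_line hE (hne hu), LinearMap.finrank_range_of_inj (f := φ) (fun p q hpq => act_inj hE hu (mv_inj g hpq)),
          hE.field.finrank_eq]
      obtain ⟨b', hb'⟩ := (Submodule.eq_of_le_of_finrank_le hle hd).ge hmem
      exact mem_line.2 ⟨b', mv_inj g hb'⟩
  have sym : ∀ {u w : ι → F}, w ≠ 0 → w ∉ line K u → u ∉ line K w ∨ u = 0 := by
    intro u w hw0 hw
    refine or_iff_not_imp_right.2 fun hu hmem => hw ?_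
    obtain ⟨a, ha⟩ := mem_line.1 hmem
    have ha0 : a ≠ 0 := fun h => hu (by rw [← ha, h, act_zero])
    obtain ⟨c, -, hc⟩ := exists_inv hE ha0
    exact mem_line.2 ⟨c, by rw [← ha, ← act_mul, hc, act_one]⟩
  have all : ∀ u, u ≠ 0 → ∀ a, σ u a = σ u₀ a := by
    intro u hu a
    by_cases hmem : u ∈ line K u₀
    · have h1 : w₀ ∉ line K u := by
        obtain ⟨b, rfl⟩ := mem_line.1 hmem
        intro h
        obtain ⟨c, rfl⟩ := mem_line.1 h
        exact hw₀ (mem_line.2 ⟨c * b, act_mul c b u₀⟩)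
      rw [indep hu h1, indep hu₀ hw₀]
    · exact (indep hu₀ hmem a).symm
  have comm : ∀ a : K, (g : Matrix ι ι F) * a.1 = (σ u₀ a).1 * (g : Matrix ι ι F) := fun a =>
    Matrix.ext_of_mulVec_single fun i => by
      rw [← Matrix.mulVec_mulVec, ← Matrix.mulVec_mulVec]
      have hs : (Pi.single i 1 : ι → F) ≠ 0 := by simp
      have := hσ (Pi.single i 1) a
      rw [all _ hs] at this
      exact this.symm
  intro k
  have fwd : ∀ k ∈ K, (g : Matrix ι ι F) * k * ((g⁻¹ : GL ι F) : Matrix ι ι F) ∈ K := fun k hk => by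
    rw [comm ⟨k, hk⟩, mul_assoc, Units.mul_inv, mul_one]; exact (σ u₀ _).2
  refine ⟨fwd k, fun hk => ?_⟩
  let ψ : K →ₗ[F] K :=
    { toFun := fun a => ⟨_, fwd a.1 a.2⟩
      map_add' := fun a b => Subtype.ext (by simp [mul_add, add_mul])
      map_smul' := fun c a => Subtype.ext (by simp) }
  have hinj : Function.Injective ψ := fun a b h => Subtype.ext (by
    have h' : (g : Matrix ι ι F) * a.1 * (g⁻¹ : GL ι F).1 = (g : Matrix ι ι F) * b.1 * (g⁻¹ : GL ι F).1 :=
      congrArg Subtype.val h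
    exact (Units.mul_right_inj g).1 ((Units.mul_left_inj g⁻¹).1 h'))
  obtain ⟨a, ha⟩ := (LinearMap.injective_iff_surjective.1 hinj) ⟨_, hk⟩
  have h' : (g : Matrix ι ι F) * a.1 * (g⁻¹ : GL ι F).1 = (g : Matrix ι ι F) * k * (g⁻¹ : GL ι F).1 :=
    congrArg Subtype.val ha
  rw [← (Units.mul_right_inj g).1 ((Units.mul_left_inj g⁻¹).1 h')]
  exact a.2

/-- An element outside the normaliser gives an element fixing a vector and moving its line. -/
theorem exists_moving_line [Finite F] (hr : 2 ≤ r) (h2 : ∃ u w : ι → F, u ≠ 0 ∧ w ∉ line K u)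
    {g₀ : GL ι F} (hg₀ : g₀ ∈ M) (hg₀N : g₀ ∉ Geo.subalgebraNormalizer K) :
    ∃ u, u ≠ 0 ∧ ∃ g ∈ M, mv g u = u ∧ ∃ a : K, mv g (act a u) ∉ line K u := by
  by_contra hcon
  push Not at hcon
  refine hg₀N (semilinear_of_lines hE hr h2 fun u a => ?_)
  rcases eq_or_ne u 0 with rfl | hu
  · rw [act_zero', mv_zero]; exact Submodule.zero_mem _
  obtain ⟨h, hh, -, hhc, hhu⟩ := exists_move hE hHM hu (w := mv g₀ u) fun e => hu (mv_inj g₀ (e.trans (mv_zero g₀).symm))
  obtain ⟨b, hb⟩ := mem_line.1 (hcon u hu (h⁻¹ * g₀) (M.mul_mem (M.inv_mem hh) hg₀)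
    (by rw [mv_mul, ← hhu, mv_inv_mv]) a)
  refine mem_line.2 ⟨b, ?_⟩
  rw [← hhu, ← hhc, hb, ← mv_mul, mul_inv_cancel_left]

end Cfsg.Agent.SympFieldExt
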