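/-
Conjugates of a line over the extension field meeting it in a hyperplane.
-/
import Cfsg.Agent.Lib.SympFieldExt.Move

set_option autoImplicit false
set_option linter.all false

namespace Cfsg.Agent.SympFieldExt

open scoped Matrix
open Matrix Cfsg.Agent.Transvec

variable {ι : Type} [Fintype ι] [DecidableEq ι] {F : Type*} [Field F]
variable {f : (ι → F) → (ι → F) → F} {r : ℕ} {K : Subalgebra F (Matrix ι ι F)} {ℓ : Module.Dual F K}
variable (hE : Ext f r K ℓ)
include hE

/-- A subspace containing one and closed under products is everything or one-dimensional. -/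
theorem finrank_closed [Nonempty ι] [Fintype F] (hr : r.Prime) (S : Submodule F K) (h1 : (1 : K) ∈ S)
    (hmul : ∀ a ∈ S, ∀ b ∈ S, a * b ∈ S) : Module.finrank F S = 1 ∨ Module.finrank F S = r := by
  letI := Aschbacher.fieldOf hE.field
  haveI : Finite K := inferInstance
  haveI : Fintype K := Fintype.ofFinite K
  let A : Subalgebra F K := S.toSubalgebra h1 fun a b ha hb => hmul a ha b hb
  let L : IntermediateField F K := A.toIntermediateField fun x hx => by
    rcases eq_or_ne x 0 with rfl | hx0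
    · rw [_root_.inv_zero]; exact A.zero_mem
    · have h2 : x * x ^ (Fintype.card K - 2) = 1 := by
        rw [← pow_succ', show Fintype.card K - 2 + 1 = Fintype.card K - 1 by
          have := Fintype.one_lt_card (α := K); omega]
        exact FiniteField.pow_card_sub_one_eq_one x hx0
      rw [inv_eq_of_mul_eq_one_right h2]
      exact A.pow_mem hx _
  have h := Module.finrank_mul_finrank F L K
  rw [hE.field.finrank_eq] at h
  exact hr.eq_one_or_self_of_dvd (Module.finrank F L) (Dvd.intro _ h)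

/-- A quadratic identity forces a multiplicatively closed image. -/
theorem closed_of_singular {P : Submodule F K} {p : K} (hp : p ∈ P) {pi : K} (hpi : pi * p = 1)
    (h : ∀ a : K, (∀ x ∈ P, ℓ (a * p * x) = 0) → ∀ x ∈ P, ∀ y ∈ P, ℓ (a * x * y) = 0) :
    ∀ x ∈ P, ∀ y ∈ P, pi * x * y ∈ P := by
  intro x hx y hy
  by_contra hxy
  obtain ⟨ψ, hψ, hψ0⟩ := Submodule.exists_dual_map_eq_bot_of_notMem hxy inferInstance
  obtain ⟨c, hc⟩ := exists_rep hE ψ
  refine hψ ?_
  rw [← hc, show pi * x * y * c = c * pi * x * y by rw [mcomm hE _ c, ← mul_assoc, ← mul_assoc]]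
  refine h (c * pi) (fun z hz => ?_) x hx y hy
  rw [mul_assoc c pi p, hpi, mul_one, mcomm hE, hc]
  have : ψ z ∈ P.map ψ := Submodule.mem_map_of_mem hz
  rwa [hψ0, Submodule.mem_bot] at this

variable {M : Subgroup (GL ι F)}
  (hHM : Geo.subalgebraNormalizer K ⊓ preserving (Units.coeHom (Matrix ι ι F)) f ≤ M)
  (hMS : M ≤ preserving (Units.coeHom (Matrix ι ι F)) f)
include hHM hMS

/-- A conjugate line meeting the given one non-trivially and not orthogonal to it. -/
theorem exists_nonorth [Fintype F] (hr : 2 ≤ r) (h2 : ∃ u w : ι → F, u ≠ 0 ∧ w ∉ line K u)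
    {g₀ : GL ι F} (hg₀ : g₀ ∈ M) (hg₀N : g₀ ∉ Geo.subalgebraNormalizer K) :
    ∃ u, u ≠ 0 ∧ ∃ g ∈ M, line K u ⊓ (line K u).map (mvLin g) ≠ ⊥ ∧
      ∃ z ∈ (line K u).map (mvLin g), fK hE z u ≠ 0 := by
  obtain ⟨u, hu, g, hg, hgu, a, ha⟩ := exists_moving_line hE hHM hr h2 hg₀ hg₀N
  refine ⟨u, hu, ?_⟩
  set z := mv g (act a u) with hz
  by_cases h : fK hE z u ≠ 0
  · refine ⟨g, hg, fun hb => hu ?_, z, ⟨act a u, act_mem_line a u, rfl⟩, h⟩
    have : u ∈ line K u ⊓ (line K u).map (mvLin g) := ⟨self_mem_line u, ⟨u, self_mem_line u, hgu⟩⟩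
    rwa [hb, Submodule.mem_bot] at this
  push Not at h
  obtain ⟨v, hvu, hvz⟩ := exists_pair hE hu ha 0 1
  have h10 : (1 : K) ≠ 0 := fun h => hu (by rw [← act_one (K := K) u, h, act_zero])
  have hc : fK hE z v * fK hE v z ≠ 0 := mul_ne_zero' hE
    (fun e => h10 (by rw [← hvz, (fK_eq_zero_comm hE).1 e])) (by rw [hvz]; exact h10)
  obtain ⟨b, hb⟩ := exists_ell_mul hE hc
  have hT := mem_T hE hHM v b
  have hTu : mv (T hE v b) u = u := by
    rw [mv_T, X_apply, (fK_eq_zero_comm hE).1 hvu, mul_zero, act_zero, add_zero]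
  have hf : f (mv (T hE v b) z) z ≠ 0 := by
    rw [mv_T, hE.symp.bilinear.add_left, hE.symp.alternating, zero_add, X_apply, ← ell_fK hE, mul_assoc]
    exact hb
  refine ⟨g⁻¹ * T hE v b * g, M.mul_mem (M.mul_mem (M.inv_mem hg) hT) hg, fun hbot => hu ?_,
    mv g⁻¹ (mv (T hE v b) z), ⟨act a u, act_mem_line a u, by
      rw [Matrix.toLin'_apply]; show mv _ _ = _; rw [mv_mul, mv_mul]⟩, fun h0 => hf ?_⟩
  · have hgi : mv g⁻¹ u = u := by rw [← hgu, mv_inv_mv, hgu]
    have : u ∈ line K u ⊓ (line K u).map (mvLin (g⁻¹ * T hE v b * g)) := ⟨self_mem_line u, ⟨u, self_mem_line u, by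
      rw [Matrix.toLin'_apply]; show mv _ _ = _; rw [mv_mul, mv_mul, hgu, hTu, hgi]⟩⟩
    rwa [hbot, Submodule.mem_bot] at this
  · have e := hMS (M.inv_mem hg) (mv (T hE v b) z) z
    change f (mv g⁻¹ (mv (T hE v b) z)) (mv g⁻¹ z) = _ at e
    rw [← e, hz, mv_inv_mv, ← ell_fK_one hE, fK_act_right, h0, mul_zero, map_zero]

/-- A conjugate line meeting the given one in a hyperplane and not orthogonal to it. -/
theorem exists_hyperplane [Nonempty ι] [Fintype F] (hr : r.Prime) (h2 : ∃ u w : ι → F, u ≠ 0 ∧ w ∉ line K u)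
    {g₀ : GL ι F} (hg₀ : g₀ ∈ M) (hg₀N : g₀ ∉ Geo.subalgebraNormalizer K) :
    ∃ u, u ≠ 0 ∧ ∃ g ∈ M, Module.finrank F ↥(line K u ⊓ (line K u).map (mvLin g)) + 1 = r ∧
      ∃ z ∈ (line K u).map (mvLin g), fK hE z u ≠ 0 := by
  classical
  obtain ⟨u, hu, g₁, hg₁, hne₁, hz₁⟩ := exists_nonorth hE hHM hMS hr.two_le h2 hg₀ hg₀N
  refine ⟨u, hu, ?_⟩
  let good : GL ι F → Prop := fun g => g ∈ M ∧ line K u ⊓ (line K u).map (mvLin g) ≠ ⊥ ∧
    ∃ z ∈ (line K u).map (mvLin g), fK hE z u ≠ 0
  obtain ⟨g, hgg, hmax⟩ := Set.exists_max_image {g | good g}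
    (fun g => Module.finrank F ↥(line K u ⊓ (line K u).map (mvLin g))) (Set.toFinite _) ⟨g₁, hg₁, hne₁, hz₁⟩
  obtain ⟨hg, hne, z₀, hz₀, hz₀u⟩ := hgg
  set L := line K u with hL
  set L' := L.map (mvLin g) with hL'
  refine ⟨g, hg, ?_, z₀, hz₀, hz₀u⟩
  have hinj : Function.Injective (mvLin g) := fun x y h => mv_inj g (by simpa using h)
  have hL'r : Module.finrank F L' = r := by
    rw [hL', ← LinearEquiv.finrank_eq (Submodule.equivMapOfInjective (mvLin g) hinj L), finrank_line hE hu]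
  let π : L' →ₗ[F] K := (proj hE u).domRestrict L'
  have hπ : ∀ z : L', π z = fK hE z.1 u := fun z => rfl
  obtain ⟨P, hP⟩ : ∃ P, P = LinearMap.range π := ⟨_, rfl⟩
  obtain ⟨W', hW'⟩ : ∃ W', W' = (LinearMap.ker π).map L'.subtype := ⟨_, rfl⟩
  have hW'r : Module.finrank F P + Module.finrank F W' = r := by
    rw [hP, hW', Submodule.finrank_map_subtype_eq, LinearMap.finrank_range_add_finrank_ker, hL'r]
  have hLu : ∀ x ∈ L, fK hE x u = 0 := by
    intro x hx
    obtain ⟨a, rfl⟩ := mem_line.1 hx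
    rw [fK_act_left, fK_self, mul_zero]
  have hWW' : L ⊓ L' ≤ W' := fun x hx => hW' ▸ ⟨⟨x, hx.2⟩, by simpa [hπ] using hLu x hx.1, rfl⟩
  have hW'k : ∀ x ∈ W', x ∈ L' ∧ fK hE x u = 0 := by
    intro x hx
    rw [hW'] at hx
    obtain ⟨y, hy, rfl⟩ := hx
    exact ⟨y.2, by simpa [hπ] using hy⟩
  -- new candidates
  have cand : ∀ (b : K) (x y : L'), ℓ (b * π x * π y) ≠ 0 →
      Module.finrank F ↥(L'.map (mvLin (T hE u b)) ⊓ L') ≤ Module.finrank F ↥(L ⊓ L') ∧
      W' ≤ L'.map (mvLin (T hE u b)) ⊓ L' := by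
    intro b x y hxy
    have hle : W' ≤ L'.map (mvLin (T hE u b)) ⊓ L' := fun w hw => ⟨⟨w, (hW'k w hw).1, by
      rw [Matrix.toLin'_apply]; show mv _ _ = _
      rw [mv_T, X_apply, (hW'k w hw).2, mul_zero, act_zero, add_zero]⟩, (hW'k w hw).1⟩
    refine ⟨?_, hle⟩
    set k := g⁻¹ * T hE u b * g with hk
    have hkM : k ∈ M := M.mul_mem (M.mul_mem (M.inv_mem hg) (mem_T hE hHM u b)) hg
    have hmap : L.map (mvLin k) = (L'.map (mvLin (T hE u b))).map (mvLin g⁻¹) := by
      rw [hL', ← Submodule.map_comp, ← Submodule.map_comp]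
      congr 1
      exact LinearMap.ext fun z => by
        show mvLin k z = _
        simp only [LinearMap.comp_apply, Matrix.toLin'_apply, hk]
        exact (mv_mul _ _ z).trans (mv_mul _ _ _)
    have hgi : Function.Injective (mvLin g⁻¹) := fun x y h => mv_inj g⁻¹ (by rwa [Matrix.toLin'_apply, Matrix.toLin'_apply] at h)
    have hLL : L'.map (mvLin g⁻¹) = L := by
      rw [hL', ← Submodule.map_comp]
      convert Submodule.map_id L
      exact LinearMap.ext fun z => by simpa using mv_inv_mv g z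
    have heq : Module.finrank F ↥(L ⊓ L.map (mvLin k)) = Module.finrank F ↥(L'.map (mvLin (T hE u b)) ⊓ L') := by
      conv_lhs => rw [hmap, ← hLL, inf_comm, ← Submodule.map_inf _ hgi]
      exact (LinearEquiv.finrank_eq (Submodule.equivMapOfInjective _ hgi _)).symm
    refine heq ▸ hmax k ⟨hkM, fun hb => ?_, ?_⟩
    · have h0 : Module.finrank F ↥(L'.map (mvLin (T hE u b)) ⊓ L') = 0 := by rw [← heq, hb, finrank_bot]
      have : W' = ⊥ := le_bot_iff.1 (hle.trans (Submodule.finrank_eq_zero.1 h0).le)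
      exact hne (le_bot_iff.1 (this ▸ hWW'))
    · obtain ⟨y₀, hy₀, hgy⟩ := y.2
      obtain ⟨c, rfl⟩ := mem_line.1 hy₀
      refine ⟨mv g⁻¹ (mv (T hE u b) x.1), hmap ▸ ⟨_, ⟨x.1, x.2, rfl⟩, rfl⟩, fun h0 => hxy ?_⟩
      have e := hMS (M.inv_mem hg) (mv (T hE u b) x.1) y.1
      change f (mv g⁻¹ (mv (T hE u b) x.1)) (mv g⁻¹ y.1) = _ at e
      have hgy' : y.1 = mv g (act c u) := hgy.symm
      rw [hgy', mv_inv_mv, ← ell_fK_one hE, fK_act_right, h0, mul_zero, map_zero, ← hgy', mv_T,
        hE.symp.bilinear.add_left, f_X hE] at e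
      have hxy0 : f x.1 y.1 = 0 := by
        obtain ⟨x₀, hx₀, hgx⟩ := x.2
        obtain ⟨d, rfl⟩ := mem_line.1 hx₀
        have e' := hMS hg (act d u) (act c u)
        change f (mv g (act d u)) (mv g (act c u)) = _ at e'
        rw [hgy', ← hgx, show (mvLin g) (act d u) = mv g (act d u) from rfl, e', ← ell_fK_one hE, fK_act_left,
          fK_act_right, fK_self, mul_zero, mul_zero, map_zero]
      rw [hxy0, zero_add] at e
      rw [hπ, hπ]
      exact neg_eq_zero.1 e.symm
  set p := π ⟨z₀, hz₀⟩ with hp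
  have hp0 : p ≠ 0 := hz₀u
  have hpP : p ∈ P := hP ▸ ⟨_, rfl⟩
  have h10 : (1 : K) ≠ 0 := fun h => hu (by rw [← act_one (K := K) u, h, act_zero])
  have eW : Module.finrank F W' = Module.finrank F ↥(L ⊓ L') := by
    refine le_antisymm ?_ (Submodule.finrank_mono hWW')
    obtain ⟨b, hb⟩ := exists_ell_mul hE (mul_ne_zero' hE hp0 hp0)
    obtain ⟨h1, h2⟩ := cand b ⟨z₀, hz₀⟩ ⟨z₀, hz₀⟩ (by rw [mul_assoc]; exact hb)
    exact (Submodule.finrank_mono h2).trans h1
  have eWeq : L ⊓ L' = W' := Submodule.eq_of_le_of_finrank_le hWW' eW.le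
  obtain ⟨pi, -, hpi⟩ := exists_inv hE hp0
  have hclosed : ∀ x ∈ P, ∀ y ∈ P, pi * x * y ∈ P := by
    refine closed_of_singular hE hpP hpi fun b hb x hx y hy => ?_
    by_contra hxy
    rw [hP] at hx hy
    obtain ⟨x, rfl⟩ := hx
    obtain ⟨y, rfl⟩ := hy
    obtain ⟨h1, h2⟩ := cand b x y hxy
    set w := X hE u b z₀ with hw
    have hwf : ∀ z ∈ L', f w z = 0 := fun z hz => by
      rw [hw, f_X hE, show fK hE z u = π ⟨z, hz⟩ from rfl, show fK hE z₀ u = p from rfl,
        hb _ (hP ▸ ⟨_, rfl⟩), neg_zero]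
    -- orthogonal to L' inside L: inside the meet
    let ψ : L →ₗ[F] Module.Dual F L' :=
      { toFun := fun v =>
          { toFun := fun z => f v.1 z.1
            map_add' := fun a c => hE.symp.bilinear.add_right _ _ _
            map_smul' := fun a c => hE.symp.bilinear.smul_right _ _ _ }
        map_add' := fun a c => LinearMap.ext fun z => hE.symp.bilinear.add_left _ _ _
        map_smul' := fun a c => LinearMap.ext fun z => hE.symp.bilinear.smul_left _ _ _ }
    have hkerle : L ⊓ L' ≤ (LinearMap.ker ψ).map L.subtype := fun v hv => ⟨⟨v, hv.1⟩, by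
      rw [SetLike.mem_coe, LinearMap.mem_ker]
      refine LinearMap.ext fun z => ?_
      show f v z.1 = 0
      obtain ⟨v₀, hv₀, hgv⟩ := hv.2
      obtain ⟨z₁, hz₁, hgz⟩ := z.2
      obtain ⟨d, rfl⟩ := mem_line.1 hv₀
      obtain ⟨c, rfl⟩ := mem_line.1 hz₁
      rw [← hgv, ← hgz, show mvLin g (act d u) = mv g (act d u) from rfl,
        show mvLin g (act c u) = mv g (act c u) from rfl]
      have e' := hMS hg (act d u) (act c u)
      change f (mv g (act d u)) (mv g (act c u)) = _ at e'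
      rw [e', ← ell_fK_one hE, fK_act_left, fK_act_right, fK_self, mul_zero, mul_zero, map_zero], rfl⟩
    have hrank : Module.finrank F P ≤ Module.finrank F (LinearMap.range ψ) := by
      -- the transpose restricted to a complement
      let τ : K →ₗ[F] Module.Dual F P :=
        { toFun := fun a => (ℓ.comp (LinearMap.mulLeft F a)).comp P.subtype
          map_add' := fun a c => LinearMap.ext fun z => by simp [add_mul]
          map_smul' := fun a c => LinearMap.ext fun z => by simp }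
      have hτ : Function.Surjective τ := by
        intro φ
        obtain ⟨φ', hφ'⟩ := LinearMap.exists_extend φ
        obtain ⟨c, hc⟩ := exists_rep hE φ'
        refine ⟨c, LinearMap.ext fun z => ?_⟩
        show ℓ (c * z.1) = φ z
        rw [mcomm hE, hc, ← hφ']; rfl
      let back : Module.Dual F P →ₗ[F] Module.Dual F L' :=
        LinearMap.dualMap (π.codRestrict P fun z => hP ▸ ⟨z, rfl⟩)
      have hback : Function.Injective back := LinearMap.dualMap_injective_of_surjective (fun q => by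
        obtain ⟨z, hz⟩ := (hP ▸ q.2 : q.1 ∈ LinearMap.range π)
        exact ⟨z, Subtype.ext hz⟩)
      have hsub : LinearMap.range back ≤ LinearMap.range ψ := by
        rintro _ ⟨φ, rfl⟩
        obtain ⟨a, rfl⟩ := hτ φ
        refine ⟨⟨act (-a) u, act_mem_line _ _⟩, LinearMap.ext fun z => ?_⟩
        show f (act (-a) u) z.1 = ℓ (a * π z)
        rw [← ell_fK hE, hπ, fK_skew hE z.1 u]
        congr 1
        exact neg_mul_neg a _
      have := Submodule.finrank_mono hsub
      rw [LinearMap.finrank_range_of_inj hback] at this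
      exact (Subspace.dual_finrank_eq (K := F) (V := P)).symm.le.trans this
    have hker : Module.finrank F ↥((LinearMap.ker ψ).map L.subtype) ≤ Module.finrank F ↥(L ⊓ L') := by
      rw [Submodule.finrank_map_subtype_eq]
      have h3 := LinearMap.finrank_range_add_finrank_ker ψ
      rw [finrank_line hE hu] at h3
      omega
    have hwL' : w ∈ L' := by
      have : w ∈ (LinearMap.ker ψ).map L.subtype := ⟨⟨w, by rw [hw, X_apply]; exact act_mem_line _ _⟩,
        LinearMap.mem_ker.2 (LinearMap.ext fun z => hwf z.1 z.2), rfl⟩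
      rw [← Submodule.eq_of_le_of_finrank_le hkerle hker] at this
      exact this.2
    have hnew : mv (T hE u b) z₀ ∈ L'.map (mvLin (T hE u b)) ⊓ L' :=
      ⟨⟨z₀, hz₀, rfl⟩, by rw [mv_T, ← hw]; exact L'.add_mem hz₀ hwL'⟩
    have hnot : mv (T hE u b) z₀ ∉ W' := fun h => hz₀u (by
      have := (hW'k _ h).2
      rwa [mv_T, fK_add_left, X_apply, fK_act_left, fK_self, mul_zero, add_zero] at this)
    have := Submodule.finrank_lt_finrank_of_lt (lt_of_le_of_ne h2 fun he => hnot (he ▸ hnew))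
    omega
  -- the image is a line
  let S := P.map (LinearMap.mulLeft F pi)
  have hS : Module.finrank F S = Module.finrank F P := (LinearEquiv.finrank_eq (Submodule.equivMapOfInjective _
    (fun x y h => by
      have h' : p * (pi * x) = p * (pi * y) := congrArg (p * ·) h
      rwa [← mul_assoc, ← mul_assoc, mcomm hE p pi, hpi, one_mul, one_mul] at h') P)).symm
  have hs := finrank_closed hE hr S ⟨p, hpP, hpi⟩ (by
    rintro _ ⟨x, hx, rfl⟩ _ ⟨y, hy, rfl⟩
    refine ⟨pi * x * y, hclosed x hx y hy, ?_⟩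
    simp only [LinearMap.mulLeft_apply]
    rw [mul_assoc pi x y, ← mul_assoc, mcomm hE (pi * x) (pi * y), mcomm hE (pi * y), mul_assoc pi x,
      ← mul_assoc x, mcomm hE x pi]
    simp only [mul_assoc])
  rw [hS] at hs
  show Module.finrank F ↥(L ⊓ L') + 1 = r
  have hpos : 0 < Module.finrank F ↥(L ⊓ L') := Nat.pos_of_ne_zero fun h => hne (Submodule.finrank_eq_zero.1 h)
  omega

end Cfsg.Agent.SympFieldExt
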