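/-
A transvection, or a product of two transvections, in an overgroup of a field extension subgroup.
-/
import Cfsg.Agent.Lib.SympFieldExt.Rank
import Cfsg.Agent.Lib.SympFieldExt.Commutator

set_option autoImplicit false
set_option linter.all false

namespace Cfsg.Agent.SympFieldExt

open scoped Matrix
open Matrix Cfsg.Agent.Transvec
open Cfsg.Agent.Aschbacher (neg_eq_of_char_two)

variable {ι : Type} [Fintype ι] [DecidableEq ι] {F : Type*} [Field F]
variable {f : (ι → F) → (ι → F) → F} {r : ℕ} {K : Subalgebra F (Matrix ι ι F)} {ℓ : Module.Dual F K}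
variable (hE : Ext f r K ℓ)
include hE

theorem line_eq {u w : ι → F} (hu : u ≠ 0) (hw : w ≠ 0) (h : w ∈ line K u) : line K w = line K u := by
  refine Submodule.eq_of_le_of_finrank_le ?_ (by rw [finrank_line hE hu, finrank_line hE hw])
  rintro _ ⟨a, rfl⟩
  obtain ⟨b, rfl⟩ := mem_line.1 h
  exact mem_line.2 ⟨a * b, act_mul a b u⟩

theorem line_isotropic (u : ι → F) : ∀ a ∈ line K u, ∀ b ∈ line K u, f a b = 0 := by
  rintro _ ⟨a, rfl⟩ _ ⟨b, rfl⟩
  show f (act a u) (act b u) = 0
  rw [← ell_fK_one hE, fK_act_left, fK_act_right, fK_self, mul_zero, mul_zero, map_zero]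

/-- Square roots in characteristic two. -/
theorem exists_sqrt [Fintype F] (h2 : (2 : F) = 0) (b : K) : ∃ β : K, β * β = b := by
  haveI : Finite K := inferInstance
  have hinj : Function.Injective fun x : K => x * x := by
    intro x y (h : x * x = y * y)
    by_contra hne
    have hneg : ∀ z : K, -z = z := fun z => Subtype.ext (Matrix.ext fun i j => neg_eq_of_char_two h2 _)
    refine mul_ne_zero' hE (sub_ne_zero.2 hne) (sub_ne_zero.2 hne) ?_
    calc (x - y) * (x - y) = x * x + y * y + -(x * y + y * x) := by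
            rw [sub_mul, mul_sub, mul_sub]; abel
      _ = x * x + y * y + (x * y + x * y) := by rw [hneg, mcomm hE y x]
      _ = (y * y + -(y * y)) + (x * y + -(x * y)) := by rw [h, hneg, hneg]
      _ = 0 := by simp
  exact (Finite.injective_iff_surjective.1 hinj) b

variable {M : Subgroup (GL ι F)}
  (hHM : Geo.subalgebraNormalizer K ⊓ preserving (Units.coeHom (Matrix ι ι F)) f ≤ M)
  (hMS : M ≤ preserving (Units.coeHom (Matrix ι ι F)) f)
include hHM hMS

/-- From a conjugate line meeting a line in a hyperplane. -/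
theorem exists_transvection_or_pair [Fintype F] (hr : 2 ≤ r) (hsq : Fintype.card F = 2 → ∀ y : K, ℓ (y * y) = ℓ y)
    {u : ι → F} (hu : u ≠ 0) {g : GL ι F} (hg : g ∈ M)
    (hW : Module.finrank F ↥(line K u ⊓ (line K u).map (mvLin g)) + 1 = r)
    {z₀ : ι → F} (hz₀ : z₀ ∈ (line K u).map (mvLin g)) (hz₀u : fK hE z₀ u ≠ 0) :
    (∃ v c, v ≠ 0 ∧ c ≠ 0 ∧ stv hE.symp v c ∈ M) ∨
    (Fintype.card F = 2 ∧ r = 2 ∧ ∃ a b, fK hE b a = 1 ∧ f b a = 0 ∧ Mem M fun z => f z b • b + f z a • a) := by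
  classical
  have hf := hE.symp
  set L := line K u with hL
  set L' := L.map (mvLin g) with hL'
  obtain ⟨W, hWdef⟩ : ∃ W, W = L ⊓ L' := ⟨_, rfl⟩
  rw [← hWdef] at hW
  have hgf : ∀ x y, f (mv g x) (mv g y) = f x y := hMS hg
  have hL'iso : ∀ a ∈ L', ∀ b ∈ L', f a b = 0 := by
    rintro _ ⟨a, ha, rfl⟩ _ ⟨b, hb, rfl⟩
    exact (hgf a b).trans (line_isotropic hE u a ha b hb)
  have hLiso := line_isotropic hE u
  have hWL : ∀ a ∈ W, a ∈ L := fun a ha => (hWdef ▸ ha : a ∈ L ⊓ L').1
  have hWL' : ∀ a ∈ W, a ∈ L' := fun a ha => (hWdef ▸ ha : a ∈ L ⊓ L').2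
  have hWW : ∀ a ∈ W, ∀ b ∈ W, f a b = 0 := fun a ha b hb => hLiso a (hWL a ha) b (hWL b hb)
  -- the hyperbolic pair
  have hne : fK hE u z₀ ≠ 0 := fun h => hz₀u ((fK_eq_zero_comm hE).1 h)
  obtain ⟨a₀, ha₀⟩ := exists_ell_mul hE hne
  obtain ⟨e, heL, hee⟩ : ∃ e ∈ L, f e z₀ = 1 := by
    refine ⟨(ℓ (a₀ * fK hE u z₀))⁻¹ • act a₀ u, L.smul_mem _ (act_mem_line _ _), ?_⟩
    rw [hf.bilinear.smul_left, ← ell_fK hE, inv_mul_cancel₀ ha₀]
  set e' := z₀ with he'
  have hWe : ∀ a ∈ W, f a e = 0 := fun a ha => hLiso a (hWL a ha) e heL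
  have hWe' : ∀ a ∈ W, f a e' = 0 := fun a ha => hL'iso a (hWL' a ha) e' hz₀
  have hee' : f e' e = -1 := by rw [hf.skew, hee]
  have cutL : ∀ x ∈ L, x - f x e' • e ∈ W := by
    intro x hx
    have hK0 : W = L ⊓ LinearMap.ker (formR hf e') := by
      refine Submodule.eq_of_le_of_finrank_le (fun a ha => ⟨hWL a ha, by simpa [formR_apply] using hWe' a ha⟩) ?_
      have hlt : L ⊓ LinearMap.ker (formR hf e') < L := lt_of_le_of_ne inf_le_left fun h => by
        have := (h.ge heL).2
        simp [formR_apply, hee] at this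
      have := Submodule.finrank_lt_finrank_of_lt hlt
      rw [finrank_line hE hu] at this
      omega
    rw [hK0]
    exact ⟨L.sub_mem hx (L.smul_mem _ heL), by simp [formR_apply, hee, f_sub_left hf, hf.bilinear.smul_left]⟩
  have cutL' : ∀ x ∈ L', x - f e x • e' ∈ W := by
    intro x hx
    have hinj : Function.Injective (mvLin g) := fun x y h => mv_inj g (by simpa using h)
    have hd : Module.finrank F L' = r := by
      rw [hL', ← LinearEquiv.finrank_eq (Submodule.equivMapOfInjective (mvLin g) hinj L), finrank_line hE hu]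
    have hK0 : W = L' ⊓ LinearMap.ker (formR hf e) := by
      refine Submodule.eq_of_le_of_finrank_le (fun a ha => ⟨hWL' a ha, by simpa [formR_apply] using hWe a ha⟩) ?_
      have hlt : L' ⊓ LinearMap.ker (formR hf e) < L' := lt_of_le_of_ne inf_le_left fun h => by
        have := (h.ge hz₀).2
        simp [formR_apply, hee'] at this
      have := Submodule.finrank_lt_finrank_of_lt hlt
      omega
    rw [hK0]
    refine ⟨L'.sub_mem hx (L'.smul_mem _ hz₀), ?_⟩
    simp [formR_apply, f_sub_left hf, hf.bilinear.smul_left, hee', hf.skew x e]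
  -- the two families
  obtain ⟨pi, -, hpi⟩ := exists_inv hE hz₀u
  have Xmem : ∀ b : K, Mem M (X hE u b) := fun b => ⟨_, mem_T hE hHM u b, mv_T hE u b⟩
  have XL : ∀ b : K, ∀ x ∈ L, X hE u b x = 0 := by
    rintro b _ ⟨a, rfl⟩
    show X hE u b (act a u) = 0
    rw [X_apply, fK_act_left, fK_self, mul_zero, mul_zero, act_zero]
  have Xr : ∀ b z, X hE u b z ∈ L := fun b z => by rw [X_apply]; exact act_mem_line _ _
  have Xe' : ∀ l ∈ L, ∃ b, X hE u b e' = l := by
    rintro _ ⟨d, rfl⟩
    exact ⟨d * pi, by rw [X_apply, mul_assoc, hpi, mul_one]; rfl⟩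
  have hq : fK hE (mv g⁻¹ e) u ≠ 0 := by
    intro h
    have hmem : mv g⁻¹ e' ∈ L := by
      obtain ⟨x, hx, hgx⟩ := hz₀
      rw [← hgx, show mvLin g x = mv g x from Matrix.toLin'_apply _ _, mv_inv_mv]; exact hx
    obtain ⟨c, hc⟩ := mem_line.1 hmem
    have h1 := hgf (mv g⁻¹ e) (mv g⁻¹ e')
    rw [mv_mv_inv, mv_mv_inv, hee, ← hc, ← ell_fK_one hE, fK_act_right, h, mul_zero, map_zero] at h1
    exact one_ne_zero h1
  obtain ⟨qi, -, hqi⟩ := exists_inv hE hq
  let Y : K → ((ι → F) →ₗ[F] ι → F) := fun c => (mvLin g).comp ((X hE u c).comp (mvLin g⁻¹))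
  have hY : ∀ c z, Y c z = mv g (X hE u c (mv g⁻¹ z)) := fun c z => by
    simp only [Y, mvLin, LinearMap.comp_apply, Matrix.toLin'_apply]
  have Ymem : ∀ c, Mem M (Y c) := fun c => ⟨g * T hE u c * g⁻¹, M.mul_mem (M.mul_mem hg (mem_T hE hHM u c)) (M.inv_mem hg),
    fun z => by rw [mv_mul, mv_mul, mv_T, mv_add, mv_mv_inv, hY]⟩
  have YL' : ∀ c, ∀ x ∈ L', Y c x = 0 := by
    rintro c _ ⟨a, ha, rfl⟩
    rw [hY, show mvLin g a = mv g a from Matrix.toLin'_apply _ _, mv_inv_mv, XL c a ha, mv_zero]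
  have Yr : ∀ c z, Y c z ∈ L' := fun c z => ⟨_, Xr c (mv g⁻¹ z), by rw [hY]; exact Matrix.toLin'_apply _ _⟩
  have Ys : ∀ c z y, f (Y c z) y + f z (Y c y) = 0 := fun c z y => by
    rw [hY, hY]
    conv_lhs => arg 1; rw [← mv_mv_inv g y, hgf]
    conv_lhs => arg 2; rw [← mv_mv_inv g z, hgf]
    exact X_sym hE u c _ _
  have Ye : ∀ l ∈ L', ∃ c, Y c e = l := by
    rintro _ ⟨x, hx, rfl⟩
    obtain ⟨d, rfl⟩ := mem_line.1 hx
    exact ⟨d * qi, by rw [hY, X_apply, mul_assoc, hqi, mul_one]; exact (Matrix.toLin'_apply _ _).symm⟩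
  have XrW : ∀ b z, ∃ c : F, X hE u b z - c • e ∈ W := fun b z => ⟨_, cutL _ (Xr b z)⟩
  have YrW : ∀ b z, ∃ c : F, Y b z - c • e' ∈ W := fun b z => ⟨_, cutL' _ (Yr b z)⟩
  -- the commutators
  have comm : ∀ (α : F) w, w ∈ W → ∀ w0 ∈ W,
      Mem M fun z => -(f z w • (α • e' + w0) + f z (α • e' + w0) • w + (α * f z w) • w) := by
    intro α w hw w0 hw0
    obtain ⟨b, hb⟩ := Xe' w (hWL w hw)
    obtain ⟨c, hc⟩ := Ye (α • e' + w0) (L'.add_mem (L'.smul_mem _ hz₀) (hWL' w0 hw0))
    exact mem_comm hf hWW hWe hWe' hee hw hw0 (Xmem b) (Ymem c) (fun z y => X_sym hE u b z y) (Ys c)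
      (fun a ha => XL b a (hWL a ha)) (fun a ha => YL' c a (hWL' a ha)) (XL b e heL) (YL' c e' hz₀) (XrW b) (YrW c) hb hc
  have hP : ∀ p ∈ W, ∀ q ∈ W, Mem M fun z => f z q • p + f z p • q := by
    intro p hp q hq'
    refine (comm 0 (-q) (W.neg_mem hq') p hp).congr fun z => ?_
    rw [show -q = (-1 : F) • q by rw [neg_one_smul], hf.bilinear.smul_right]
    simp only [zero_smul, zero_add, zero_mul, add_zero]
    module
  have hW0 : W ≠ ⊥ := fun h => by rw [h, finrank_bot] at hW; omega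
  obtain ⟨w, hw, hw0⟩ := W.ne_bot_iff.1 hW0
  by_cases h2 : (2 : F) = 0
  swap
  · left
    refine ⟨w, 2, hw0, h2, stv_mem_of hf ((hP w hw w hw).congr fun z => ?_)⟩
    module
  have hneg : ∀ v : ι → F, -v = v := fun v => funext fun i => neg_eq_of_char_two h2 _
  by_cases hc : ∃ c : F, c ≠ 0 ∧ c ≠ 1
  · left
    obtain ⟨c, hc0, hc1⟩ := hc
    refine ⟨w, c * c - c, hw0, by rw [show c * c - c = c * (c - 1) by ring]; exact mul_ne_zero hc0 (sub_ne_zero.2 hc1),
      stv_mem_of hf ?_⟩
    have hA := comm 1 (c • w) (W.smul_mem c hw) 0 W.zero_mem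
    obtain ⟨b, hb⟩ : ∃ B : (ι → F) →ₗ[F] ι → F, ∀ z, B z = -(c • (rankTwo hf e' w z + f z w • w)) :=
      ⟨-(c • (rankTwo hf e' w + (formR hf w).smulRight w)), fun z => by simp [formR_apply]⟩
    have hB : Mem M b := (comm c w hw 0 W.zero_mem).congr fun z => by
      rw [hb]; simp only [add_zero, hf.bilinear.smul_right, rankTwo, LinearMap.coe_mk, AddHom.coe_mk]; module
    have hzw : ∀ z, f (b z) w = 0 ∧ f (b z) e' = 0 := fun z => by
      rw [hb, ← neg_smul]
      simp only [rankTwo, LinearMap.coe_mk, AddHom.coe_mk, hf.bilinear.smul_left, hf.bilinear.add_left, hf.alternating,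
        hWe' w hw, (f_eq_zero_comm hf).1 (hWe' w hw), mul_zero, add_zero, and_self]
    refine (hA.sub hB (fun z => ?_) fun z => ?_).congr fun z => ?_
    · rw [hb (b z)]
      simp only [rankTwo, LinearMap.coe_mk, AddHom.coe_mk, (hzw z).1, (hzw z).2, zero_smul, add_zero, smul_zero, neg_zero]
    · simp only [add_zero, one_mul, one_smul, hf.bilinear.smul_right, f_sub_left hf, (hzw z).1, (hzw z).2,
        sub_zero]
    · rw [hb]
      simp only [add_zero, one_mul, one_smul, hf.bilinear.smul_right, rankTwo, LinearMap.coe_mk, AddHom.coe_mk]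
      match_scalars
      · ring
      · linear_combination (-(f z e' * c) - c * c * f z w + c * f z w) * 0 + (-(c * c * f z w) + c * f z w) * h2
  -- two elements
  push Not at hc
  have hF : Fintype.card F = 2 := by
    rw [← Nat.card_eq_fintype_card, Nat.card_eq_two_iff' (0 : F)]
    exact ⟨1, one_ne_zero, hc⟩
  have hsq' : ∀ c : F, c * c = c := fun c => by
    rcases eq_or_ne c 0 with h | h
    · rw [h, mul_zero]
    · rw [hc c h, mul_one]
  rcases eq_or_lt_of_le hr with hr2 | hr3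
  · right
    refine ⟨hF, hr2.symm, w, e', ?_, (f_eq_zero_comm hf).1 (hWe' w hw), ?_⟩
    · have hlw : line K w = L := line_eq hE hu hw0 (hWL w hw)
      set x := fK hE w e' with hx
      have hx0 : x ≠ 0 := fun h => by
        obtain ⟨d, hd⟩ := mem_line.1 (hlw.ge heL)
        rw [← hd, ← ell_fK hE, ← hx, h, mul_zero, map_zero] at hee
        exact zero_ne_one hee
      have hxl : ℓ x = 0 := by rw [hx, ell_fK_one, hWe' w hw]
      have hx1 : x = 1 := by
        have hker : Module.finrank F (LinearMap.ker ℓ) ≤ 1 := by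
          have h1 := LinearMap.finrank_range_add_finrank_ker ℓ
          have h3 : 0 < Module.finrank F (LinearMap.range ℓ) := Nat.pos_of_ne_zero fun h =>
            hE.ell_ne (LinearMap.range_eq_bot.1 (Submodule.finrank_eq_zero.1 h))
          rw [hE.field.finrank_eq] at h1
          omega
        have hle : Submodule.span F {x} = LinearMap.ker ℓ := Submodule.eq_of_le_of_finrank_le
          (Submodule.span_le.2 (by simpa using hxl)) (by rw [finrank_span_singleton hx0]; exact hker)
        obtain ⟨c, hcx⟩ := Submodule.mem_span_singleton.1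
          (hle.ge (LinearMap.mem_ker.2 (by rw [hsq hF, hxl] : ℓ (x * x) = 0)))
        rcases eq_or_ne c 0 with h | h
        · rw [h, zero_smul] at hcx
          exact absurd hcx.symm (mul_ne_zero' hE hx0 hx0)
        · rw [hc c h, one_smul] at hcx
          obtain ⟨i, -, hi⟩ := exists_inv hE hx0
          calc x = i * x * x := by rw [hi, one_mul]
            _ = i * x := by rw [mul_assoc, ← hcx]
            _ = 1 := hi
      rw [fK_skew hE w e', ← hx, hx1]
      exact Subtype.ext (Matrix.ext fun i j => neg_eq_of_char_two h2 _)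
    · obtain ⟨c, hcY⟩ := Ye e' hz₀
      refine (Ymem c).congr fun z => ?_
      have hW1 : ∀ v ∈ W, ∃ φ : F, φ • w = v := fun v hv => by
        have : Submodule.span F {w} = W := Submodule.eq_of_le_of_finrank_le
          (Submodule.span_le.2 (by simpa using hw)) (by rw [finrank_span_singleton hw0]; omega)
        exact Submodule.mem_span_singleton.1 (this.ge hv)
      have hdec : ∀ z, ∃ φ : F, Y c z = f z e' • e' + φ • w := fun z => by
        obtain ⟨φ, hφ⟩ := hW1 _ (cutL' _ (Yr c z))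
        refine ⟨φ, ?_⟩
        have : f e (Y c z) = f z e' := by
          have h3 := Ys c z e
          rw [hcY, hf.skew (Y c z) e] at h3
          linear_combination -h3
        rw [hφ, this]; abel
      choose φ hφ using hdec
      obtain ⟨-, y₀, hy₀⟩ := hf.nondegenerate w hw0
      have hy1 : f w y₀ = 1 := hc _ hy₀
      have hφz : ∀ z y, φ z * f w y + φ y * f z w = 0 := fun z y => by
        have h3 := Ys c z y
        rw [hφ, hφ, hf.bilinear.add_left, hf.bilinear.add_right, hf.bilinear.smul_left, hf.bilinear.smul_left,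
          hf.bilinear.smul_right, hf.bilinear.smul_right] at h3
        linear_combination h3 - f z e' * hf.skew e' y
      have hβ : φ y₀ = 1 := by
        refine hc _ fun h0 => ?_
        have hall : ∀ z, φ z = 0 := fun z => by
          have := hφz z y₀
          rw [h0, hy1] at this
          linear_combination this
        obtain ⟨d, hd, hgd⟩ := hWL' w hw
        obtain ⟨d, rfl⟩ := mem_line.1 hd
        have hc0 : c ≠ 0 := fun h => by
          rw [hY, h, X_apply, zero_mul, act_zero, mv_zero] at hcY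
          rw [← hcY, f_zero_left hf] at hee'
          exact one_ne_zero (α := F) (by linear_combination hee')
        obtain ⟨ci, hci, -⟩ := exists_inv hE hc0
        obtain ⟨v, hv⟩ := exists_one hE hu (ci * d)
        have he : Y c (mv g v) = w := by
          rw [hY, mv_inv_mv, X_apply, hv, ← mul_assoc, hci, one_mul]
          rw [← hgd]; exact (Matrix.toLin'_apply _ _).symm
        rw [hφ, hall, zero_smul, add_zero] at he
        have h3 := hWe w hw
        rw [← he, hf.bilinear.smul_left, hee'] at h3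
        rw [show f (mv g v) e' = 0 by linear_combination -h3, zero_smul] at he
        exact hw0 he.symm
      rw [hφ]
      congr 2
      have := hφz z y₀
      rw [hy1, hβ] at this
      linear_combination this - f z w * h2
  left
  -- a good vector of the meet
  obtain ⟨w₁, hw₁, hw₁0, hw₁p⟩ : ∃ w₁ ∈ W, w₁ ≠ 0 ∧ w₁ ≠ act pi u := by
    by_cases h : w = act pi u
    swap
    · exact ⟨w, hw, hw0, h⟩
    have hlt : Submodule.span F {w} < W := lt_of_le_of_ne (Submodule.span_le.2 (by simpa using hw)) fun he => by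
      rw [← he, finrank_span_singleton hw0] at hW; omega
    obtain ⟨w₁, hw₁, hn⟩ := SetLike.exists_of_lt hlt
    exact ⟨w₁, hw₁, fun h0 => hn (h0 ▸ Submodule.zero_mem _), fun h1 => hn (by
      rw [h1, ← h]; exact Submodule.mem_span_singleton_self w)⟩
  obtain ⟨b, hb⟩ := Xe' e heL
  obtain ⟨c, hc'⟩ := Ye w₁ (hWL' w₁ hw₁)
  have hD := mem_comm (e := e') (e' := e) (α := 1) (w0 := 0) hf hWW hWe' hWe (by rw [hee', neg_eq_of_char_two h2])
    hw₁ W.zero_mem (Ymem c) (Xmem b) (Ys c) (fun z y => X_sym hE u b z y) (fun a ha => YL' c a (hWL' a ha))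
    (fun a ha => XL b a (hWL a ha)) (YL' c e' hz₀) (XL b e heL) (YrW c) (XrW b) hc' (by rw [hb, one_smul, add_zero])
  obtain ⟨b₁, hb₁⟩ := Xe' w₁ (hWL w₁ hw₁)
  obtain ⟨D, hDdef⟩ : ∃ D : (ι → F) →ₗ[F] ι → F, ∀ z, D z = f z w₁ • e + f z e • w₁ + f z w₁ • w₁ :=
    ⟨rankTwo hf e w₁ + (formR hf w₁).smulRight w₁, fun z => by simp [rankTwo, formR_apply]⟩
  have hD' : Mem M D := hD.congr fun z => by rw [hDdef, hneg]; simp
  obtain ⟨Z, hZ⟩ : ∃ Z : (ι → F) →ₗ[F] ι → F, ∀ z, Z z = X hE u b₁ z + D z := ⟨X hE u b₁ + D, fun z => rfl⟩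
  have hDL : ∀ z, D z ∈ L := fun z => hDdef z ▸
    L.add_mem (L.add_mem (L.smul_mem _ heL) (L.smul_mem _ (hWL w₁ hw₁))) (L.smul_mem _ (hWL w₁ hw₁))
  have hZmem : Mem M Z := ((Xmem b₁).add hD' fun z => by rw [map_add, XL b₁ _ (hDL z), add_zero]).congr fun z => (hZ z).symm
  have hXz : ∀ z, f (X hE u b₁ z) e' = -f z w₁ := fun z => by
    have := X_sym hE u b₁ z e'
    rw [hb₁] at this
    linear_combination this
  have hwe' := hWe' w₁ hw₁
  have hew : f e w₁ = 0 := (f_eq_zero_comm hf).1 (hWe w₁ hw₁)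
  have hZr : ∀ z, Z z ∈ W := fun z => by
    have hmem := cutL _ (L.add_mem (Xr b₁ z) (hDL z))
    rw [← hZ] at hmem
    have h0 : f (Z z) e' = 0 := by
      rw [hZ, hDdef, hf.bilinear.add_left, hXz, hf.bilinear.add_left, hf.bilinear.add_left, hf.bilinear.smul_left,
        hf.bilinear.smul_left, hf.bilinear.smul_left, hee, hwe']
      ring
    rwa [h0, zero_smul, sub_zero] at hmem
  obtain ⟨β, hβ⟩ := exists_sqrt hE h2 b₁
  set v := act β u + w₁ with hv
  have hdiag : ∀ z, f (Z z) z = f z v := fun z => by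
    have hX1 : f (X hE u b₁ z) z = f z (act β u) := by
      rw [f_X hE, ← hβ, show β * β * fK hE z u * fK hE z u = (β * fK hE z u) * (β * fK hE z u) by
        simp only [mul_assoc]; rw [← mul_assoc (fK hE z u) β, mcomm hE (fK hE z u) β, mul_assoc],
        hsq hF, ell_fK hE, neg_eq_of_char_two h2, f_act hE]
    rw [hZ, hDdef, hf.bilinear.add_left, hX1, hf.bilinear.add_left, hf.bilinear.add_left, hf.bilinear.smul_left,
      hf.bilinear.smul_left, hf.bilinear.smul_left, hv, hf.bilinear.add_right, hf.skew e z, hf.skew w₁ z]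
    linear_combination (-(f z e * f z w₁) - f z w₁) * h2 - hsq' (f z w₁)
  have hvL : v ∈ L := L.add_mem (act_mem_line _ _) (hWL w₁ hw₁)
  have hve : f v e' = 0 := by
    have h3 : f (Z e') e' = 0 := hWe' _ (hZr e')
    rw [hdiag] at h3
    exact (f_eq_zero_comm hf).1 h3
  have hvW : v ∈ W := by
    have := cutL v hvL
    rwa [hve, zero_smul, sub_zero] at this
  have hv0 : v ≠ 0 := by
    intro h
    have h1 : act β u = w₁ := by
      have := eq_neg_of_add_eq_zero_left h
      rwa [hneg] at this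
    rw [← hb₁, X_apply, ← hβ] at h1
    have h3 := act_inj hE hu h1
    by_cases hb0 : β = 0
    · rw [← hb₁, X_apply, ← hβ, hb0, zero_mul, zero_mul, act_zero] at hw₁0
      exact hw₁0 rfl
    obtain ⟨i, -, hi⟩ := exists_inv hE hb0
    have h4 : (1 : K) = β * fK hE e' u := by
      calc (1 : K) = i * β := hi.symm
        _ = i * (β * β * fK hE e' u) := by rw [← h3]
        _ = β * fK hE e' u := by rw [← mul_assoc, ← mul_assoc, hi, one_mul]
    refine hw₁p ?_
    rw [← hb₁, X_apply, ← hβ, ← h3]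
    congr 1
    calc β = β * (pi * fK hE e' u) := by rw [hpi, mul_one]
      _ = pi * (β * fK hE e' u) := by rw [← mul_assoc, mcomm hE β pi, mul_assoc]
      _ = pi := by rw [← h4, mul_one]
  refine ⟨v, 1, hv0, one_ne_zero, stv_mem_of hf ?_⟩
  obtain ⟨Z', hZ'⟩ : ∃ Z' : (ι → F) →ₗ[F] ι → F, ∀ z, Z' z = Z z + f z v • v :=
    ⟨Z + (formR hf v).smulRight v, fun z => by simp [formR_apply]⟩
  have hZs : ∀ z y, f (Z z) y + f z (Z y) = 0 := fun z y => by
    rw [hZ, hZ, hDdef, hDdef]
    simp only [hf.bilinear.add_left, hf.bilinear.add_right, hf.bilinear.smul_left, hf.bilinear.smul_right,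
      hf.skew e y, hf.skew w₁ y]
    linear_combination X_sym hE u b₁ z y
  have hmem' : Mem M Z' := mem_of_alternating hf hWW h2 hP Z'
    (fun z => hZ' z ▸ W.add_mem (hZr z) (W.smul_mem _ hvW))
    (fun z y => by
      rw [hZ', hZ']
      simp only [hf.bilinear.add_left, hf.bilinear.add_right, hf.bilinear.smul_left, hf.bilinear.smul_right,
        hf.skew v y]
      linear_combination hZs z y)
    (fun z => by
      rw [hZ', hf.bilinear.add_left, hf.bilinear.smul_left, hdiag, hf.skew v z]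
      linear_combination -hsq' (f z v))
  have hZW : ∀ a ∈ W, Z a = 0 := fun a ha => by
    rw [hZ, XL b₁ a (hWL a ha), hDdef, hWW a ha w₁ hw₁, hWe a ha]; simp
  refine (hmem'.sub hZmem (fun z => hZW _ (hZr z)) fun z => ?_).congr fun z => ?_
  · rw [map_sub, hZ' (Z z), hZW _ (hZr z), hWW _ (hZr z) v hvW, zero_smul, add_zero, sub_zero]
  · rw [hZ', one_mul]; abel

end Cfsg.Agent.SympFieldExt
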