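/-
The normaliser of an extension field of prime degree is maximal in the symplectic group.
-/
import Cfsg.Agent.Lib.SympFieldExt.Transvection

set_option autoImplicit false
set_option linter.all false

namespace Cfsg.Agent.SympFieldExt

open scoped Matrix
open Matrix Cfsg.Agent.Transvec
open Cfsg.Agent.Aschbacher (neg_eq_of_char_two)

variable {ι : Type} [Fintype ι] [DecidableEq ι] {F : Type*} [Field F]
variable {f : (ι → F) → (ι → F) → F} {r : ℕ} {K : Subalgebra F (Matrix ι ι F)}

/-- A functional compatible with squaring over two elements. -/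
theorem exists_functional [Nonempty ι] [Fintype F] (hK : Geo.IsFieldSubalgebra r K) :
    ∃ ℓ : Module.Dual F K, ℓ ≠ 0 ∧ (Fintype.card F = 2 → ∀ y : K, ℓ (y * y) = ℓ y) := by
  letI := Aschbacher.fieldOf hK
  haveI : Finite K := inferInstance
  refine ⟨Algebra.trace F K, Algebra.trace_ne_zero F K, fun h2 y => ?_⟩
  have h := Algebra.trace_eq_of_algEquiv (FiniteField.frobeniusAlgEquivOfAlgebraic F K) y
  rw [FiniteField.coe_frobeniusAlgEquivOfAlgebraic] at h
  simp only [h2, pow_two] at h
  exact h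

variable {ℓ : Module.Dual F K} (hE : Ext f r K ℓ)
include hE

theorem exists_indep [Nonempty ι] : ∃ u w : ι → F, u ≠ 0 ∧ w ∉ line K u := by
  obtain ⟨i⟩ := ‹Nonempty ι›
  have hu : (Pi.single i 1 : ι → F) ≠ 0 := by simp
  obtain ⟨-, z, hz⟩ := hE.symp.nondegenerate _ hu
  exact ⟨_, z, hu, fun hmem => hz (line_isotropic hE _ _ (self_mem_line _) _ hmem)⟩

theorem exists_outside [Nonempty ι] (hr : 2 ≤ r) :
    ∃ t ∈ preserving (Units.coeHom (Matrix ι ι F)) f, t ∉ Geo.subalgebraNormalizer K := by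
  have hf := hE.symp
  obtain ⟨i⟩ := ‹Nonempty ι›
  have hu : (Pi.single i 1 : ι → F) ≠ 0 := by simp
  set u := (Pi.single i 1 : ι → F)
  obtain ⟨y, hy⟩ := (hf.nondegenerate u hu).1
  obtain ⟨z, hz⟩ : ∃ z, f z u = 1 := ⟨(f y u)⁻¹ • y, by rw [hf.bilinear.smul_left, inv_mul_cancel₀ hy]⟩
  obtain ⟨a, ha⟩ : ∃ a : K, a ∉ Submodule.span F {(1 : K)} := by
    by_contra h
    push Not at h
    have h1 : Module.finrank F K ≤ 1 := by
      have := (Submodule.eq_top_iff'.2 h : Submodule.span F {(1 : K)} = ⊤)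
      rw [← finrank_top, ← this]
      exact (finrank_span_le_card _).trans (by simp)
    rw [hE.field.finrank_eq] at h1; omega
  refine ⟨stv hf u 1, stv_mem hf u 1, fun hN => ha ?_⟩
  set a' : K := ⟨_, (hN a.1).1 a.2⟩ with ha'
  have e : mv (stv hf u 1) (act a z) = act a' (mv (stv hf u 1) z) := by
    rw [ha']
    show _ = (_ * a.1 * _) *ᵥ mv (stv hf u 1) z
    rw [← Matrix.mulVec_mulVec, ← Matrix.mulVec_mulVec]
    show _ = mv _ (act a (mv (stv hf u 1)⁻¹ (mv (stv hf u 1) z)))
    rw [mv_inv_mv]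
  rw [mv_stv, mv_stv, hz, one_mul, one_mul, one_smul, act_add'] at e
  set c := f (act a z) u
  have h1 : act (a - a') z = act (a' - c • 1) u := by
    rw [act_sub, act_sub, act_smul, act_one]; linear_combination (norm := module) e
  have h2 : a - a' = 0 := by
    by_contra h0
    obtain ⟨b, -, hb⟩ := exists_inv hE h0
    have hmem : z ∈ line K u := mem_line.2 ⟨b * (a' - c • 1), by rw [act_mul, ← h1, ← act_mul, hb, act_one]⟩
    exact one_ne_zero (α := F) (by rw [← hz, line_isotropic hE u z hmem u (self_mem_line u)])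
  rw [h2, act_zero] at h1
  have h3 := (act_eq_zero hE h1.symm).resolve_right hu
  rw [sub_eq_zero.1 h2, sub_eq_zero.1 h3]
  exact Submodule.smul_mem _ _ (Submodule.mem_span_singleton_self _)

variable {M : Subgroup (GL ι F)}
  (hHM : Geo.subalgebraNormalizer K ⊓ preserving (Units.coeHom (Matrix ι ι F)) f ≤ M)
  (hMS : M ≤ preserving (Units.coeHom (Matrix ι ι F)) f)
include hHM hMS

theorem conj_mem {g : GL ι F} (hg : g ∈ M) {v : ι → F} {c : F} (h : stv hE.symp v c ∈ M) :
    stv hE.symp (mv g v) c ∈ M := by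
  have := stv_conj hE.symp (g := g) one_ne_zero (fun x y => by rw [one_mul]; exact hMS hg x y) v c
  rw [div_one] at this
  rw [← this]
  exact M.mul_mem (M.mul_mem hg h) (M.inv_mem hg)

theorem eq_of_transvection [Fintype F] {v : ι → F} {c : F} (hv : v ≠ 0) (hc : c ≠ 0)
    (h : stv hE.symp v c ∈ M) : M = preserving (Units.coeHom (Matrix ι ι F)) f := by
  refine sCentres_eq_univ hE.symp hMS fun w => ?_
  intro d
  rcases eq_or_ne w 0 with rfl | hw
  · rw [show stv hE.symp (0 : ι → F) d = 1 from ext_mv fun z => by rw [mv_stv, mv_one, smul_zero, add_zero]]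
    exact M.one_mem
  have sq : ∀ s : F, stv hE.symp w (s * s * c) ∈ M := by
    intro s
    rcases eq_or_ne s 0 with rfl | hs
    · rw [zero_mul, zero_mul, stv_zero]; exact M.one_mem
    obtain ⟨g, hg, -, -, hgv⟩ := exists_move hE hHM hv (w := s • w) (smul_ne_zero hs hw)
    have := conj_mem hE hHM hMS hg h
    rwa [hgv, stv_smul] at this
  by_cases h2 : (2 : F) = 0
  · have hinj : Function.Injective fun x : F => x * x := fun x y (hxy : x * x = y * y) => by
      have : (x - y) * (x - y) = 0 := by linear_combination hxy + (y * y - x * y) * h2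
      exact sub_eq_zero.1 (mul_self_eq_zero.1 this)
    obtain ⟨s, hs⟩ := Finite.injective_iff_surjective.1 hinj (d / c)
    have := sq s
    rwa [show s * s * c = d by rw [show s * s = d / c from hs, div_mul_cancel₀ _ hc]] at this
  · obtain ⟨s, t, hst⟩ : ∃ s t : F, s * s * c = d + t * t * c :=
      ⟨(d / c + 1) / 2, (d / c - 1) / 2, by field_simp; ring⟩
    have := M.mul_mem (sq s) (M.inv_mem (sq t))
    rwa [hst, ← stv_add, mul_inv_cancel_right] at this

theorem eq_of_pair [Fintype F] (hF : Fintype.card F = 2) (hn : 6 ≤ Module.finrank F (ι → F)) {a b : ι → F}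
    (hab : fK hE b a = 1) (hba : f b a = 0) (h : Mem M fun z => f z b • b + f z a • a) :
    M = preserving (Units.coeHom (Matrix ι ι F)) f := by
  classical
  have hf := hE.symp
  have h2 : (2 : F) = 0 := by
    have := FiniteField.cast_card_eq_zero F
    rw [hF] at this; exact_mod_cast this
  obtain ⟨τ, hτ⟩ : ∃ τ : (ι → F) → GL ι F, ∀ v, τ v = stv hf v 1 := ⟨_, fun v => rfl⟩
  have hmv : ∀ v z, mv (τ v) z = z + f z v • v := fun v z => by rw [hτ, mv_stv, one_mul]
  have hττ : ∀ v, τ v * τ v = 1 := fun v => by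
    rw [hτ, stv_add, show (1 : F) + 1 = 0 by linear_combination h2, stv_zero]
  have h0 : τ a * τ b ∈ M := by
    obtain ⟨g, hg, hgz⟩ := h
    rwa [show τ a * τ b = g from ext_mv fun z => by
      rw [mv_mul, hmv, hmv, hgz, hf.bilinear.add_left, hf.bilinear.smul_left, hba, mul_zero, add_zero, add_assoc]]
  have R0 : ∀ x y, fK hE y x = 1 → τ x * τ y ∈ M := by
    intro x y hxy
    obtain ⟨g, hg, hgb, hga⟩ := exists_move_pair hE hHM (u := a) (v := b) (u' := x) (v' := y) hab hxy
    have e : ∀ v, g * τ v * g⁻¹ = τ (mv g v) := fun v => by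
      rw [hτ, hτ, stv_conj hf (g := g) one_ne_zero (fun x y => by rw [one_mul]; exact hMS hg x y) v 1, div_one]
    have := M.mul_mem (M.mul_mem hg h0) (M.inv_mem hg)
    rwa [show g * (τ a * τ b) * g⁻¹ = (g * τ a * g⁻¹) * (g * τ b * g⁻¹) by group, e, e, hgb, hga] at this
  have inv' : ∀ v, (τ v)⁻¹ = τ v := fun v => inv_eq_of_mul_eq_one_right (hττ v)
  have symR : ∀ x y, τ x * τ y ∈ M → τ y * τ x ∈ M := fun x y h => by
    have := M.inv_mem h
    rwa [_root_.mul_inv_rev, inv', inv'] at this
  have transR : ∀ x y z, τ x * τ y ∈ M → τ y * τ z ∈ M → τ x * τ z ∈ M := fun x y z h h' => by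
    have := M.mul_mem h h'
    rwa [mul_assoc, ← mul_assoc (τ y), hττ, one_mul] at this
  have indep : ∀ x y : ι → F, x ≠ 0 → y ∉ line K x → τ x * τ y ∈ M := fun x y hx hy => by
    obtain ⟨v, h1, h2⟩ := exists_pair hE hx hy 1 1
    exact transR x v y (R0 x v h1) (symR y v (R0 y v h2))
  have allR : ∀ x y : ι → F, x ≠ 0 → y ≠ 0 → τ x * τ y ∈ M := by
    intro x y hx hy
    by_cases hmem : y ∈ line K x
    swap
    · exact indep x y hx hmem
    obtain ⟨-, d, hd⟩ := hf.nondegenerate x hx
    have hdx : d ∉ line K x := fun hm => hd (line_isotropic hE x x (self_mem_line x) d hm)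
    have hdy : d ∉ line K y := by rwa [line_eq hE hx hy hmem]
    exact transR x d y (indep x d hx hdx) (symR y d (indep y d hy hdy))
  haveI : Nontrivial (ι → F) := Module.nontrivial_of_finrank_pos (R := F) (by omega)
  obtain ⟨e, he⟩ := exists_ne (0 : ι → F)
  obtain ⟨-, y, hy⟩ := hf.nondegenerate e he
  obtain ⟨e', hee⟩ : ∃ e', f e e' = 1 := ⟨(f e y)⁻¹ • y, by rw [hf.bilinear.smul_right, inv_mul_cancel₀ hy]⟩
  obtain ⟨X1, hX1⟩ : ∃ X1, X1 = LinearMap.ker (formR hf e) ⊓ LinearMap.ker (formR hf e') := ⟨_, rfl⟩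
  have kerdim : ∀ (φ : Module.Dual F (ι → F)) (S : Submodule F (ι → F)),
      Module.finrank F S ≤ Module.finrank F ↥(S ⊓ LinearMap.ker φ) + 1 := by
    intro φ S
    have h1 := LinearMap.finrank_range_add_finrank_ker (φ.domRestrict S)
    have h2 := Submodule.finrank_le (LinearMap.range (φ.domRestrict S))
    rw [Module.finrank_self] at h2
    have h3 : (LinearMap.ker (φ.domRestrict S)).map S.subtype ≤ S ⊓ LinearMap.ker φ := by
      rintro _ ⟨v, hv, rfl⟩
      exact ⟨v.2, hv⟩
    have h4 := Submodule.finrank_mono h3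
    rw [Submodule.finrank_map_subtype_eq] at h4
    omega
  have hX1d : 4 ≤ Module.finrank F X1 := by
    have h1 := kerdim (formR hf e) ⊤
    have h3 := kerdim (formR hf e') (LinearMap.ker (formR hf e))
    rw [finrank_top, top_inf_eq] at h1
    rw [hX1]; omega
  obtain ⟨w, hw, hw0⟩ := X1.ne_bot_iff.1 (fun h => by rw [h, finrank_bot] at hX1d; omega)
  have hlt : Submodule.span F {w} < X1 ⊓ LinearMap.ker (formR hf w) := lt_of_le_of_ne
    (Submodule.span_le.2 (by simpa [formR_apply, hw] using hf.alternating w)) fun he' => by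
    have h1 := kerdim (formR hf w) X1
    rw [← he', finrank_span_singleton hw0] at h1
    omega
  obtain ⟨w0, hw0X, hw0w⟩ := SetLike.exists_of_lt hlt
  have hXe : ∀ v ∈ X1, f v e = 0 ∧ f v e' = 0 := fun v hv => by
    rw [hX1] at hv
    exact ⟨by simpa [formR_apply] using hv.1, by simpa [formR_apply] using hv.2⟩
  obtain ⟨hwe, hwe'⟩ := hXe w hw
  obtain ⟨hw0e, hw0e'⟩ := hXe w0 hw0X.1
  have hw0w' : f w0 w = 0 := by simpa [formR_apply] using hw0X.2
  obtain ⟨W, hWdef⟩ : ∃ W, W = Submodule.span F ({w, w0} : Set (ι → F)) := ⟨_, rfl⟩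
  have hWmem : ∀ v, v ∈ W ↔ ∃ p q : F, p • w + q • w0 = v := fun v => hWdef ▸ Submodule.mem_span_pair
  have hwW : w ∈ W := (hWmem w).2 ⟨1, 0, by simp⟩
  have hw0W : w0 ∈ W := (hWmem w0).2 ⟨0, 1, by simp⟩
  have hW : ∀ p ∈ W, ∀ q ∈ W, f p q = 0 := by
    intro p hp q hq
    obtain ⟨a₁, a₂, rfl⟩ := (hWmem p).1 hp
    obtain ⟨b₁, b₂, rfl⟩ := (hWmem q).1 hq
    simp only [hf.bilinear.add_left, hf.bilinear.add_right, hf.bilinear.smul_left, hf.bilinear.smul_right,
      hf.alternating, hw0w', (f_eq_zero_comm hf).1 hw0w']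
    ring
  have hWe : ∀ p ∈ W, f p e = 0 ∧ f p e' = 0 := by
    intro p hp
    obtain ⟨a₁, a₂, rfl⟩ := (hWmem p).1 hp
    simp [hf.bilinear.add_left, hf.bilinear.smul_left, hwe, hwe', hw0e, hw0e']
  have he'0 : e' ≠ 0 := fun h => by rw [h, f_zero_right hf] at hee; exact zero_ne_one hee
  have pairX : ∀ x d : ι → F, f x d = 0 → τ (x + d) * τ x ∈ M →
      Mem M (((formR hf x).smulRight x + (formR hf (x + d)).smulRight (x + d) : (ι → F) →ₗ[F] ι → F)) := by
    intro x d hxd hm
    refine ⟨_, hm, fun z => ?_⟩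
    simp only [LinearMap.add_apply, LinearMap.coe_smulRight, formR_apply, mv_mul, hmv]
    rw [hf.bilinear.add_left, hf.bilinear.smul_left, hf.bilinear.add_right x x d, hf.alternating, hxd, add_zero,
      mul_zero, add_zero, add_assoc]
  have hewn : e + w ≠ 0 := fun h => by
    have := congrArg (fun v => f v e') h
    simp only [hf.bilinear.add_left, hee, hwe', add_zero, f_zero_left hf] at this
    exact one_ne_zero this
  have hewn' : e' + w0 ≠ 0 := fun h => by
    have := congrArg (fun v => f e v) h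
    simp only [hf.bilinear.add_right, hee, (f_eq_zero_comm hf).1 hw0e, add_zero, f_zero_right hf] at this
    exact one_ne_zero this
  have hee' : f e' e = 1 := by rw [hf.skew, hee, neg_eq_of_char_two h2]
  have hC := mem_comm (e := e) (e' := e') (w := w) (w0 := w0) (α := 0) hf hW (fun p hp => (hWe p hp).1)
    (fun p hp => (hWe p hp).2) hee hwW hw0W
    (pairX e w ((f_eq_zero_comm hf).1 hwe) (allR _ _ hewn he))
    (pairX e' w0 ((f_eq_zero_comm hf).1 hw0e') (allR _ _ hewn' he'0))
    (fun z y => by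
      simp only [LinearMap.add_apply, LinearMap.coe_smulRight, formR_apply, hf.bilinear.add_left, hf.bilinear.add_right,
        hf.bilinear.smul_left, hf.bilinear.smul_right, hf.skew e y, hf.skew w y]
      ring)
    (fun z y => by
      simp only [LinearMap.add_apply, LinearMap.coe_smulRight, formR_apply, hf.bilinear.add_left, hf.bilinear.add_right,
        hf.bilinear.smul_left, hf.bilinear.smul_right, hf.skew e' y, hf.skew w0 y]
      ring)
    (fun p hp => by simp [formR_apply, hf.bilinear.add_right, (hWe p hp).1, hW p hp w hwW])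
    (fun p hp => by simp [formR_apply, hf.bilinear.add_right, (hWe p hp).2, hW p hp w0 hw0W])
    (by simp [formR_apply, hf.bilinear.add_right, hf.alternating, (f_eq_zero_comm hf).1 hwe])
    (by simp [formR_apply, hf.bilinear.add_right, hf.alternating, (f_eq_zero_comm hf).1 hw0e'])
    (fun z => ⟨f z e + f z (e + w), by
      simp only [LinearMap.add_apply, LinearMap.coe_smulRight, formR_apply]
      convert W.smul_mem (f z (e + w)) hwW using 1
      module⟩)
    (fun z => ⟨f z e' + f z (e' + w0), by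
      simp only [LinearMap.add_apply, LinearMap.coe_smulRight, formR_apply]
      convert W.smul_mem (f z (e' + w0)) hw0W using 1
      module⟩)
    (by
      simp only [LinearMap.add_apply, LinearMap.coe_smulRight, formR_apply, hf.bilinear.add_right, hee',
        (f_eq_zero_comm hf).1 hwe', add_zero, one_smul]
      rw [← add_assoc, ← two_smul F, h2, zero_smul, zero_add])
    (by
      simp only [LinearMap.add_apply, LinearMap.coe_smulRight, formR_apply, hf.bilinear.add_right, hee,
        (f_eq_zero_comm hf).1 hw0e, add_zero, one_smul, zero_smul, zero_add]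
      rw [← add_assoc, ← two_smul F, h2, zero_smul, zero_add])
  obtain ⟨g, hg, hgz⟩ := hC
  have hw0ne : w0 ≠ 0 := fun h => hw0w (h ▸ Submodule.zero_mem _)
  have hsum : w0 + w ≠ 0 := fun h => hw0w (by
    rw [eq_neg_of_add_eq_zero_left h]; exact Submodule.neg_mem _ (Submodule.mem_span_singleton_self w))
  have hneg : ∀ v : ι → F, -v = v := fun v => funext fun i => neg_eq_of_char_two h2 _
  have heq : τ w0 = g * (τ (w0 + w) * τ w) := ext_mv fun z => by
    rw [mv_mul, mv_mul, hgz, hmv, hmv, hmv]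
    beta_reduce
    rw [hneg]
    simp only [zero_smul, zero_add, zero_mul, add_zero, hf.bilinear.add_left, hf.bilinear.add_right,
      hf.bilinear.smul_left, hf.alternating, hW w hwW w0 hw0W, hw0w', mul_zero]
    match_scalars <;> grind
  refine eq_of_transvection hE hHM hMS hw0ne (c := 1) one_ne_zero ?_
  rw [← hτ, heq]
  exact M.mul_mem hg (allR _ _ hsum hw0)

omit hHM hMS in
/-- Maximality. -/
theorem normalizer_maximal [Nonempty ι] [Fintype F] (hr : r.Prime)
    (hsq : Fintype.card F = 2 → ∀ y : K, ℓ (y * y) = ℓ y) (hn : 6 ≤ Module.finrank F (ι → F)) :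
    Geo.IsMaximalIn (preserving (Units.coeHom (Matrix ι ι F)) f)
      (Geo.subalgebraNormalizer K ⊓ preserving (Units.coeHom (Matrix ι ι F)) f) := by
  obtain ⟨t, ht, htN⟩ := exists_outside hE hr.two_le
  refine ⟨lt_of_le_of_ne inf_le_right fun he => htN (he.ge ht).1, fun M hHM hMS => ?_⟩
  by_cases hall : ∀ g ∈ M, g ∈ Geo.subalgebraNormalizer K
  · exact Or.inl (le_antisymm (fun g hg => ⟨hall g hg, hMS hg⟩) hHM)
  push Not at hall
  obtain ⟨g₀, hg₀, hg₀N⟩ := hall
  obtain ⟨u, hu, g, hg, hW, z, hz, hzu⟩ := exists_hyperplane hE hHM hMS hr (exists_indep hE) hg₀ hg₀N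
  refine Or.inr ?_
  rcases exists_transvection_or_pair hE hHM hMS hr.two_le hsq hu hg hW hz hzu with
    ⟨v, c, hv, hc, h⟩ | ⟨hF, -, a, b, hab, hba, h⟩
  · exact eq_of_transvection hE hHM hMS hv hc h
  · exact eq_of_pair hE hHM hMS hF hn hab hba h

end Cfsg.Agent.SympFieldExt
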